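import Cfsg.Agent.Lib.Lie.Suz.Binary.Tools
import Cfsg.Agent.Lib.Lie.Suz.Char.Classes
import Cfsg.Agent.Lib.Lie.Suz.Sub.Max

/-!
# Binary coset actions: subgroups fixing a point, and subfield subgroups
-/

set_option autoImplicit false
set_option linter.unusedSectionVars false

namespace CfsgLib.Lie.Suz.Binary

open Cfsg CfsgLib.Lie.Suz
open scoped MatrixGroups

variable {F : Type*} [Field F] [Fintype F] {m : ℕ}
variable (hm : 1 ≤ m) (hF : Fintype.card F = 2 ^ (2 * m + 1))

include hm hF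

/-- a proper subgroup containing the translations is not binary -/
theorem U_le {H : Subgroup (Cfsg.Sz F m)} (hH : H ≠ ⊤) (hU : U hF ≤ H) : ¬ IsBin H := by
  have hS := isSuzField hF
  have hW : WS hF ∉ H := by
    intro hW
    refine hH (eq_top_iff.2 ?_)
    rw [← perfect hm hF]
    haveI : IsSimpleGroup (Cfsg.Sz F m) := simple hm hF
    -- the translations and the involution generate
    intro g _
    have hcl : Subgroup.normalClosure ((U hF : Subgroup (Cfsg.Sz F m)) : Set (Cfsg.Sz F m)) ≤ H := by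
      rw [Subgroup.normalClosure, Subgroup.closure_le]
      intro y hy
      obtain ⟨u, hu, hconj⟩ := Group.mem_conjugatesOfSet_iff.1 hy
      obtain ⟨d, rfl⟩ := isConj_iff.1 hconj
      rcases decomp hm hF d with ⟨a, b, k, rfl⟩ | ⟨x, y, a, b, k, rfl⟩
      · refine hU ?_
        have := normalizer_U hm hF (m := m)
        have hd : TS hF a b * HS hF k ∈ Subgroup.normalizer ((U hF : Subgroup (Cfsg.Sz F m)) : Set (Cfsg.Sz F m)) := by
          rw [this]; exact (mem_stab_inf hm hF).2 ⟨a, b, k, rfl⟩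
        exact (Subgroup.mem_normalizer_iff.1 hd u).1 hu
      · have hd : TS hF a b * HS hF k ∈ Subgroup.normalizer ((U hF : Subgroup (Cfsg.Sz F m)) : Set (Cfsg.Sz F m)) := by
          rw [normalizer_U hm hF]; exact (mem_stab_inf hm hF).2 ⟨a, b, k, rfl⟩
        have hu' := hU ((Subgroup.mem_normalizer_iff.1 hd u).1 hu)
        have hx : TS hF x y * WS hF ∈ H := mul_mem (hU (TS_mem_U hF x y)) hW
        show TS hF x y * WS hF * (TS hF a b * HS hF k) * u * (TS hF x y * WS hF * (TS hF a b * HS hF k))⁻¹ ∈ H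
        rw [show TS hF x y * WS hF * (TS hF a b * HS hF k) * u * (TS hF x y * WS hF * (TS hF a b * HS hF k))⁻¹ =
          TS hF x y * WS hF * ((TS hF a b * HS hF k) * u * (TS hF a b * HS hF k)⁻¹) * (TS hF x y * WS hF)⁻¹ by group]
        exact mul_mem (mul_mem hx hu') (inv_mem hx)
    have hne : Subgroup.normalClosure ((U hF : Subgroup (Cfsg.Sz F m)) : Set (Cfsg.Sz F m)) = ⊤ := by
      refine ((Subgroup.normalClosure_normal).eq_bot_or_eq_top).resolve_left fun e => ?_
      have h1 : TS hF 1 0 ∈ (⊥ : Subgroup (Cfsg.Sz F m)) := e ▸ Subgroup.subset_normalClosure (TS_mem_U hF 1 0)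
      rw [Subgroup.mem_bot, ← TS_zero' hF] at h1
      exact one_ne_zero (TS_inj hF h1).1
    exact hcl (hne ▸ Subgroup.mem_top g)
  refine not_bin_of_cycle (three_not_dvd hm hF) hW (hU (TS_mem_U hF 1 1)) (hU (TS_mem_U hF 0 1)) ?_
  set E := WS hF * TS hF 1 1 * WS hF * TS hF 0 1 * WS hF with hE
  have hfix : E • oInf F m = oInf F m := by
    apply Subtype.ext
    show (W * T m 1 1 * W * T m 0 1 * W : SL(4, F)) • suzukiPointInfinity F = suzukiPointInfinity F
    rw [mul_smul, mul_smul, mul_smul, mul_smul, W_inf, T_zero_pt hS, W_pt hS (by simp), T_pt hS]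
    have h1 : fO m (0 : F) 1 = 1 := by simp [fO, th_one hS, th_zero hS]
    rw [h1, inv_one, mul_one, zero_mul, th_one hS, one_mul, add_self hS, add_comm (0 : F) 1, add_zero, add_self hS,
      pt_zero_zero, W_zero]
  obtain ⟨a, b, k, hk⟩ := (mem_stab_inf hm hF).1 (smul_inf_iff.1 hfix)
  have hsub : E ∈ SubSz hm hF 1 :=
    mul_mem (mul_mem (mul_mem (mul_mem (WS_mem_SubSz hm hF 1) (TS_mem_SubSz hm hF InF.one InF.one))
      (WS_mem_SubSz hm hF 1)) (TS_mem_SubSz hm hF InF.zero InF.one)) (WS_mem_SubSz hm hF 1)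
  rw [hk, mem_SubSz hm hF, map_mul, sigAut_TS, sigAut_HS] at hsub
  obtain ⟨-, -, hk2⟩ := TH_inj hF (congrArg Subtype.val hsub :)
  have hk1 : k = 1 := by
    have h2 : frobA hF 1 (k : F) = (k : F) := congrArg Units.val hk2
    rw [frobA_apply hF, pow_one, sq] at h2
    exact Units.ext (mul_right_cancel₀ k.ne_zero (h2.trans (one_mul _).symm))
  rw [hk, hk1, HS_one hF, mul_one]
  exact hU (TS_mem_U hF a b)

end CfsgLib.Lie.Suz.Binary
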