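import Cfsg.Agent.Lib.Lie.Suz.Binary.Tools
import Cfsg.Agent.Lib.Lie.Suz.Char.Covering

/-!
# Binary coset actions: refutations by counting decompositions
-/

set_option autoImplicit false
set_option linter.unusedSectionVars false

namespace CfsgLib.Lie.Suz.Binary

open Cfsg CfsgLib.Char CfsgLib.Lie.Suz
open scoped MatrixGroups ComplexConjugate

theorem exists_decomp {G : Type*} [Group G] [Finite G] {x g : G} {S : Set G}
    (h : Nat.card {y // y ∈ S ∧ IsConj x y} < classConst x x g) :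
    ∃ u v : G, g = (u * x * u⁻¹) * (v * x * v⁻¹) ∧ u * x * u⁻¹ ∉ S := by
  by_contra hc
  push Not at hc
  refine absurd h (not_lt.2 (Nat.card_le_card_of_injective
    (fun p => ⟨p.1.1, ?_, p.2.1⟩) fun p q e => ?_))
  · obtain ⟨u, hu⟩ := isConj_iff.1 p.2.1
    obtain ⟨v, hv⟩ := isConj_iff.1 p.2.2.1
    rw [← hu]
    exact hc u v (by rw [hu, hv, p.2.2.2])
  · have e' : p.1.1 = q.1.1 := congrArg Subtype.val e
    refine Subtype.ext (Prod.ext e' (mul_left_cancel (a := p.1.1) ?_))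
    rw [p.2.2.2, e', q.2.2.2]

theorem classConst_real {G : Type*} [Group G] [Finite G] (x g : G) :
    (classConst x x g : ℝ) = (Nat.card {y // IsConj x y} : ℝ) * (Nat.card {y // IsConj x y} : ℝ) / (Nat.card G : ℝ) *
      (cov x g).re := by
  have h : (classConst x x g : ℂ) = (Nat.card {y // IsConj x y} : ℂ) * (Nat.card {y // IsConj x y} : ℂ) /
      (Nat.card G : ℂ) * cov x g := classConst_formula x x g
  have := congrArg Complex.re h
  rw [Complex.natCast_re, show (Nat.card {y // IsConj x y} : ℂ) * (Nat.card {y // IsConj x y} : ℂ) /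
      (Nat.card G : ℂ) = (((Nat.card {y // IsConj x y} : ℝ) * (Nat.card {y // IsConj x y} : ℝ) /
      (Nat.card G : ℝ) : ℝ) : ℂ) by push_cast; rfl, Complex.re_ofReal_mul] at this
  exact this

theorem num_invol {r : ℝ} (hr : 2 ≤ r) : 1 / 2 ≤
    1 - r ^ 2 * (-2 * r) / (r * (2 * r ^ 2 - 1)) + (2 * r ^ 2 - 1 - 1) * 1 / ((2 * r ^ 2) ^ 2 + 1) / 2 +
        (2 * r ^ 2 + 2 * r + 1 - 1) * (2 * r - 1) / ((2 * r ^ 2 - 2 * r + 1) * (2 * r ^ 2 - 1)) / 4 +
      (2 * r ^ 2 - 2 * r + 1 - 1) * (-(2 * r) - 1) / ((2 * r ^ 2 + 2 * r + 1) * (2 * r ^ 2 - 1)) / 4 := by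
  obtain ⟨h1, h2, h3, h4, h5⟩ := bnd hr
  obtain ⟨-, a1, -⟩ := small_v hr
  have a2 : 0 ≤ (2 * r ^ 2 - 1 - 1) * 1 / ((2 * r ^ 2) ^ 2 + 1) := div_nonneg (by linarith) h3.le
  have a3 : 0 ≤ (2 * r ^ 2 + 2 * r + 1 - 1) * (2 * r - 1) / ((2 * r ^ 2 - 2 * r + 1) * (2 * r ^ 2 - 1)) :=
    div_nonneg (mul_nonneg (by nlinarith) (by linarith)) h4.le
  have a4 : -2 ≤ (2 * r ^ 2 - 2 * r + 1 - 1) * (-(2 * r) - 1) / ((2 * r ^ 2 + 2 * r + 1) * (2 * r ^ 2 - 1)) := by
    rw [le_div_iff₀ h5]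
    nlinarith [mul_le_mul (show 2 * r ^ 2 - 2 * r + 1 - 1 ≤ 2 * r ^ 2 + 2 * r + 1 by linarith)
      (show 2 * r + 1 ≤ 2 * (2 * r ^ 2 - 1) by nlinarith) (by linarith) (by nlinarith)]
  have e : r ^ 2 * (-2 * r) / (r * (2 * r ^ 2 - 1)) = -(2 * r ^ 3 / (r * (2 * r ^ 2 - 1))) := by ring
  linarith

variable {F : Type*} [Field F] [Fintype F] {m : ℕ}
variable (hm : 1 ≤ m) (hF : Fintype.card F = 2 ^ (2 * m + 1))

include hm hF

theorem cov_invol {x g : Cfsg.Sz F m} (hx : orderOf x = 4) (hg : orderOf g = 2) : 1 / 2 ≤ (cov x g).re := by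
  classical
  haveI : Fintype (Cfsg.Sz F m) := Fintype.ofFinite _
  obtain ⟨hA', hP', hM', n1, n2, n3⟩ := dvd_tori hm hF
  obtain ⟨CA, hA, -⟩ := Tset_rep hm hF hA'
  obtain ⟨CP, hP, -⟩ := Tset_rep hm hF hP'
  obtain ⟨CM', hM, -⟩ := Tset_rep hm hF hM'
  haveI : Finite (↥CA →* ℂˣ) := Nat.finite_of_card_ne_zero (by
    rw [card_lin hm hF hA' hA]; have := (tori_coprime hF hm hA' hA').2.1; omega)
  haveI : Finite (↥CP →* ℂˣ) := Nat.finite_of_card_ne_zero (by
    rw [card_lin hm hF hP' hP]; have := (tori_coprime hF hm hP' hP').2.1; omega)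
  haveI : Finite (↥CM' →* ℂˣ) := Nat.finite_of_card_ne_zero (by
    rw [card_lin hm hF hM' hM]; have := (tori_coprime hF hm hM' hM').2.1; omega)
  haveI : Fintype (↥CA →* ℂˣ) := Fintype.ofFinite _
  haveI : Fintype (↥CP →* ℂˣ) := Fintype.ofFinite _
  haveI : Fintype (↥CM' →* ℂˣ) := Fintype.ofFinite _
  obtain ⟨cA, cP, cM⟩ := cast_dR hm hF
  obtain ⟨-, -, hr2⟩ := q_bounds hm hF
  have hw : conj (mkCF hF (rowW m) g) + conj (mkCF hF (rowW' m) g) = ((-2 * 2 ^ m : ℝ) : ℂ) := by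
    simp only [mkCF_two hF _ hg, rowW, rowW', map_neg, map_pow, map_ofNat]
    push_cast
    ring
  rw [cov_four hm hF hA hP hM hx g _ _ _ _ hw (col_invol hm hF hA' hA (good_A hm hF) hg)
    (col_invol hm hF hP' hP (good_P hm hF) hg) (col_invol hm hF hM' hM (good_M hm hF) hg), Complex.ofReal_re]
  simp only [cA, cP, cM, degA, degP, degM]
  generalize (2 : ℝ) ^ m = r at hr2 ⊢
  exact num_invol hr2

/-- half of the elements of order four form the class of one of them -/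
theorem card_class_four {x : Cfsg.Sz F m} (hx : orderOf x = 4) :
    Nat.card {g : Cfsg.Sz F m // orderOf g = 4} ≤ 2 * Nat.card {y // IsConj x y} := by
  classical
  have key : ∀ g : Cfsg.Sz F m, orderOf g = 4 → ¬ IsConj x g → IsConj x g⁻¹ := by
    intro g hg hn
    obtain ⟨c, ⟨-, e1, -⟩ | ⟨-, e1, -⟩⟩ := conj_rep_four hm hF hx <;>
      obtain ⟨d, ⟨-, f1, f2⟩ | ⟨-, f1, f2⟩⟩ := conj_rep_four hm hF hg
    all_goals
      first
        | exact absurd ((isConj_iff.2 ⟨c, e1⟩).trans (isConj_iff.2 ⟨d, f1⟩).symm) hn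
        | exact (isConj_iff.2 ⟨c, e1⟩).trans (isConj_iff.2 ⟨d, f2⟩).symm
  rw [two_mul, ← Nat.card_sum]
  refine Nat.card_le_card_of_injective
    (fun g => if h : IsConj x g.1 then Sum.inl ⟨g.1, h⟩ else Sum.inr ⟨g.1⁻¹, key g.1 g.2 h⟩) fun g g' e => ?_
  simp only at e
  split_ifs at e
  · exact Subtype.ext (congrArg Subtype.val (Sum.inl.inj e) :)
  · exact Subtype.ext (inv_injective (congrArg Subtype.val (Sum.inr.inj e) :))

/-- a subgroup of the translations with an element of order four is not binary -/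
theorem four_case {H : Subgroup (Cfsg.Sz F m)} (hHU : H ≤ U hF) {x : Cfsg.Sz F m} (hxH : x ∈ H)
    (hx : orderOf x = 4) : ¬ IsBin H := by
  classical
  have hx4 : x ^ 4 = 1 := orderOf_dvd_iff_pow_eq_one.1 hx.dvd
  have hg1 : x * x ≠ 1 := fun e => by
    have := orderOf_dvd_of_pow_eq_one (show x ^ 2 = 1 by rw [sq, e])
    rw [hx] at this
    norm_num at this
  haveI : Fact (Nat.Prime 2) := ⟨Nat.prime_two⟩
  have hgo : orderOf (x * x) = 2 :=
    orderOf_eq_prime (by rw [sq, ← mul_assoc]; simpa [pow_succ] using hx4) hg1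
  have hgt : IsTwo (x * x) := ⟨1, by rw [pow_one, ← hgo, pow_orderOf_eq_one]⟩
  have hS : Nat.card {y : Cfsg.Sz F m // y ∈ (U hF : Subgroup (Cfsg.Sz F m)) ∧ IsConj x y} ≤
      Fintype.card F * Fintype.card F - Fintype.card F := by
    have h4 : ∀ y : {y : Cfsg.Sz F m // y ∈ (U hF : Subgroup (Cfsg.Sz F m)) ∧ IsConj x y},
        ∃ (a : Fˣ) (b : F), y.1 = TS hF (a : F) b := by
      rintro ⟨y, ⟨a, b, hab⟩, hy⟩
      obtain ⟨c, hc⟩ := isConj_iff.1 hy
      have hy4 : orderOf y = 4 := by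
        rw [← hc, show c * x * c⁻¹ = MulAut.conj c x from rfl, MulEquiv.orderOf_eq, hx]
      refine ⟨Units.mk0 a fun ha => ?_, b, Subtype.ext hab⟩
      obtain rfl : y = TS hF a b := Subtype.ext hab
      rcases eq_or_ne b 0 with rfl | hb
      · rw [ha, TS_zero' hF, orderOf_one] at hy4; norm_num at hy4
      · rw [ha, TS_order_two hF hb] at hy4; norm_num at hy4
    choose a b hab using h4
    refine (Nat.card_le_card_of_injective (fun y => (a y, b y)) fun y y' e => ?_).trans (le_of_eq ?_)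
    · refine Subtype.ext ?_
      rw [hab y, hab y', show a y = a y' from congrArg Prod.fst e, show b y = b y' from congrArg Prod.snd e]
    · rw [Nat.card_prod, Nat.card_units, Nat.card_eq_fintype_card, Nat.sub_mul, one_mul]
  have hlt : Nat.card {y : Cfsg.Sz F m // y ∈ (U hF : Subgroup (Cfsg.Sz F m)) ∧ IsConj x y} <
      classConst x x (x * x) := by
    refine lt_of_le_of_lt hS ?_
    have h8 : (8 : ℝ) ≤ (Fintype.card F : ℝ) := by exact_mod_cast eight_le_q hF hm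
    have hK := card_class_four hm hF hx
    rw [card_order_four hm hF] at hK
    have hK' : ((Fintype.card F : ℝ) ^ 2 + 1) * ((Fintype.card F : ℝ) ^ 2 - Fintype.card F) ≤
        2 * (Nat.card {y // IsConj x y} : ℝ) := by
      have := (Nat.cast_le (α := ℝ)).2 hK
      rw [Nat.cast_mul, Nat.cast_mul, Nat.cast_add, Nat.cast_sub (Nat.le_self_pow two_ne_zero _), Nat.cast_pow,
        Nat.cast_one, Nat.cast_ofNat] at this
      exact this
    rw [← Nat.cast_lt (α := ℝ), classConst_real, card_Sz hm hF, Nat.cast_sub (Nat.le_mul_self _), Nat.cast_mul,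
      Nat.cast_mul, Nat.cast_mul, Nat.cast_sub Fintype.card_pos, Nat.cast_add, Nat.cast_pow, Nat.cast_one]
    have hc := cov_invol hm hF hx hgo
    generalize (cov x (x * x)).re = A at hc ⊢
    generalize (Nat.card {y // IsConj x y} : ℝ) = K at hK' ⊢
    generalize (Fintype.card F : ℝ) = q at h8 hK' ⊢
    have hG : 0 < q ^ 2 * (q ^ 2 + 1) * (q - 1) := by
      have : 0 < q - 1 := by linarith
      positivity
    have hK2 : ((q ^ 2 + 1) * (q ^ 2 - q)) * ((q ^ 2 + 1) * (q ^ 2 - q)) ≤ (2 * K) * (2 * K) := by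
      have : 0 ≤ (q ^ 2 + 1) * (q ^ 2 - q) := mul_nonneg (by positivity) (by nlinarith)
      exact mul_le_mul hK' hK' this (this.trans hK')
    have h1 : (q ^ 2 + 1) * (q - 1) / 4 ≤ K * K / (q ^ 2 * (q ^ 2 + 1) * (q - 1)) := by
      rw [le_div_iff₀ hG]
      nlinarith [hK2]
    have h2 : (q ^ 2 + 1) * (q - 1) / 4 * (1 / 2) ≤ K * K / (q ^ 2 * (q ^ 2 + 1) * (q - 1)) * A :=
      mul_le_mul h1 hc (by norm_num) ((div_nonneg (mul_self_nonneg K) hG.le))
    refine lt_of_lt_of_le ?_ h2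
    nlinarith [mul_lt_mul_of_pos_right (show 8 * q < q ^ 2 + 1 by nlinarith) (show 0 < q - 1 by linarith)]
  obtain ⟨u, v, huv, hout⟩ := exists_decomp (S := ((U hF : Subgroup (Cfsg.Sz F m)) : Set (Cfsg.Sz F m))) hlt
  refine not_bin_of_witness (u := u) (v := v) (b := u * x * u⁻¹) (mul_mem hxH hxH) ?_ ?_ ?_
  · rwa [show u⁻¹ * (u * x * u⁻¹) * u = x by group]
  · rw [huv, inv_mul_cancel_left, show v⁻¹ * (v * x * v⁻¹) * v = x by group]
    exact hxH
  intro e he heu hev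
  have hxt : IsTwo x := ⟨2, hx4⟩
  -- an element of the translations fixing a second point is trivial
  have key : ∀ {w e : Cfsg.Sz F m}, IsTwo e → e • oInf F m = oInf F m → w⁻¹ * e * w ∈ U hF → e ≠ 1 →
      w • oInf F m = oInf F m := by
    intro w e het hfe hw he1
    obtain ⟨p, -, huniq⟩ := two_fix hm hF he1 het
    have h2 := U_smul_inf hF hw
    rw [mul_smul, mul_smul, inv_smul_eq_iff] at h2
    exact (huniq _ h2).trans (huniq _ hfe).symm
  have hxinf : x • oInf F m = oInf F m := U_smul_inf hF (hHU hxH)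
  have bad : ∀ w : Cfsg.Sz F m, w • oInf F m = oInf F m → w * x * w⁻¹ ∈ U hF := by
    intro w hw
    refine mem_U_of_two hm hF (hxt.conj w) ?_
    have hwi : w⁻¹ • oInf F m = oInf F m := by rw [inv_smul_eq_iff, hw]
    rw [mul_smul, mul_smul, hwi, hxinf, hw]
  rcases eq_or_ne e 1 with rfl | he1
  · rw [inv_one, one_mul] at hev
    have hv := bad v (key hgt (U_smul_inf hF (hHU (mul_mem hxH hxH))) (hHU hev) hg1)
    refine hout ?_
    have := mul_mem (hHU (mul_mem hxH hxH)) (inv_mem hv)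
    rwa [huv, mul_inv_cancel_right] at this
  · exact hout (bad u (key (isTwo_of_mem_U hF (hHU he)) (U_smul_inf hF (hHU he)) (hHU heu) he1))

theorem cov_free {x : Cfsg.Sz F m} (hx : ¬ IsTwo x) (hfree : Free x) : 1 / 7 ≤ (cov x x).re := by
  classical
  haveI : Fintype (Cfsg.Sz F m) := Fintype.ofFinite _
  obtain ⟨hA', hP', hM', n1, n2, n3⟩ := dvd_tori hm hF
  obtain ⟨cA, cP, cM⟩ := cast_dR hm hF
  obtain ⟨-, -, hr2⟩ := q_bounds hm hF
  obtain ⟨-, -, -, rA, rP, rM⟩ := gen_rows hm hF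
  have torP : ∀ R : Row, R.tor m (dP m) = R.cP := fun R => (if_neg n1.symm).trans (if_pos rfl)
  have torM : ∀ R : Row, R.tor m (dM m) = R.cM := fun R => (if_neg n2.symm).trans (if_neg n3.symm)
  have mP : nOf m (dP m) = 4 := if_neg n1.symm
  have mM : nOf m (dM m) = 4 := if_neg n2.symm
  have hcard := centralizer_card hm hF hx
  simp only [Set.mem_insert_iff, Set.mem_singleton_iff] at hcard
  have hnA := (free_iff_card hm hF hx).1 hfree
  obtain ⟨CA, hA, -⟩ := Tset_rep hm hF hA'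
  haveI : Finite (↥CA →* ℂˣ) := Nat.finite_of_card_ne_zero (by
    rw [card_lin hm hF hA' hA]; have := (tori_coprime hF hm hA' hA').2.1; omega)
  haveI : Fintype (↥CA →* ℂˣ) := Fintype.ofFinite _
  set C := Subgroup.centralizer ({x} : Set (Cfsg.Sz F m)) with hC
  have hxC : x ∈ C := Subgroup.mem_centralizer_singleton_iff.2 rfl
  have hu : (⟨x, hxC⟩ : ↥C) ≠ 1 := fun e => hx ⟨0, by
    rw [pow_zero, pow_one]; exact congrArg Subtype.val e⟩
  rcases hcard.resolve_left hnA with hd | hd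
  · have hP : C ∈ Tset F m (dP m) := ⟨x, hx, rfl, hd⟩
    obtain ⟨CM', hM, -⟩ := Tset_rep hm hF hM'
    haveI : Finite (↥C →* ℂˣ) := Nat.finite_of_card_ne_zero (by
      rw [card_lin hm hF hP' hP]; have := (tori_coprime hF hm hP' hP').2.1; omega)
    haveI : Finite (↥CM' →* ℂˣ) := Nat.finite_of_card_ne_zero (by
      rw [card_lin hm hF hM' hM]; have := (tori_coprime hF hm hM' hM').2.1; omega)
    haveI : Fintype (↥C →* ℂˣ) := Fintype.ofFinite _
    haveI : Fintype (↥CM' →* ℂˣ) := Fintype.ofFinite _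
    obtain ⟨e1, e2, e3⟩ := rows_torus hm hF hP' hP hu
    rw [show cov x x = _ from cov_torus hm hF hA hP hM hP' hP hu x (-1) 1 2 _ (Or.inr (torP _))
      (by simp [torP, rowW]) (by rw [e1, torP]; simp [rowSt])
      (by rw [e2, e3, torP]; simp [rowW]; norm_num) rfl, Complex.add_re, Complex.ofReal_re]
    rw [fam_torus_zero hm hF hA' hA (good_A hm hF) hP' hP n1.symm hu,
      fam_torus_zero hm hF hM' hM (good_M hm hF) hP' hP n3 hu, zero_div, zero_div, add_zero, zero_add]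
    generalize hZ : (∑ ψ ∈ Finset.univ.erase (1 : ↥C →* ℂˣ),
      csum ((⟨x, hxC⟩ : ↥C) : Cfsg.Sz F m) x (exX hF (rowP m) (-1) ψ)) = Z
    have hdeg : 0 < degP m := by obtain ⟨o1, o2, -⟩ := deg_order hm hF; linarith
    have hre : -(‖Z‖ / 4) ≤ (Z / 4).re := by
      have h0 := Complex.abs_re_le_norm (Z / 4)
      rw [norm_div, Complex.norm_ofNat] at h0
      exact (abs_le.1 h0).1
    rcases Nat.lt_or_ge m 2 with hm2 | hm2
    · obtain rfl : m = 1 := by omega
      have hb := fam_torus_same hm hF hP' hP (good_P hm hF) rP hdeg hu hu 3 (by norm_num)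
        (Or.inr (by rw [mP, cP]; norm_num))
      rw [hZ, mP, cP] at hb
      norm_num [degP] at hb hre ⊢
      linarith
    · have hb := fam_torus_same hm hF hP' hP (good_P hm hF) rP hdeg hu hu 4 (by norm_num)
        (Or.inl (by rw [mP]; norm_num))
      rw [hZ, mP, cP, degP] at hb
      have hr4 : (4 : ℝ) ≤ 2 ^ m := by
        calc (4 : ℝ) = 2 ^ 2 := by norm_num
          _ ≤ 2 ^ m := pow_le_pow_right₀ (by norm_num) hm2
      simp only [Nat.cast_ofNat] at hb
      generalize (2 : ℝ) ^ m = r at hr4 hr2 hb ⊢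
      obtain ⟨h1, h2, h3, h4, h5⟩ := bnd hr2
      obtain ⟨-, a0, -⟩ := small_q hr2
      obtain ⟨-, a1⟩ := small_w hr2
      have a : 4 * (4 * (2 * r ^ 2 + 2 * r + 1) - 4 ^ 2) / ((2 * r ^ 2 - 2 * r + 1) * (2 * r ^ 2 - 1)) ≤ 2 := by
        rw [div_le_iff₀ h4]
        nlinarith [mul_le_mul_of_nonneg_left (show (31 : ℝ) ≤ 2 * r ^ 2 - 1 by nlinarith)
          (show 0 ≤ 2 * r ^ 2 - 2 * r + 1 by nlinarith)]
      rw [one_pow, one_mul]
      linarith
  · have hM : C ∈ Tset F m (dM m) := ⟨x, hx, rfl, hd⟩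
    obtain ⟨CP, hP, -⟩ := Tset_rep hm hF hP'
    haveI : Finite (↥C →* ℂˣ) := Nat.finite_of_card_ne_zero (by
      rw [card_lin hm hF hM' hM]; have := (tori_coprime hF hm hM' hM').2.1; omega)
    haveI : Finite (↥CP →* ℂˣ) := Nat.finite_of_card_ne_zero (by
      rw [card_lin hm hF hP' hP]; have := (tori_coprime hF hm hP' hP').2.1; omega)
    haveI : Fintype (↥C →* ℂˣ) := Fintype.ofFinite _
    haveI : Fintype (↥CP →* ℂˣ) := Fintype.ofFinite _
    obtain ⟨e1, e2, e3⟩ := rows_torus hm hF hM' hM hu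
    rw [show cov x x = _ from cov_torus hm hF hA hP hM hM' hM hu x (-1) (-1) (-2) _ (Or.inr (torM _))
      (by simp [torM, rowW]) (by rw [e1, torM]; simp [rowSt])
      (by rw [e2, e3, torM]; simp [rowW]; norm_num) rfl, Complex.add_re, Complex.ofReal_re]
    rw [fam_torus_zero hm hF hA' hA (good_A hm hF) hM' hM n2.symm hu,
      fam_torus_zero hm hF hP' hP (good_P hm hF) hM' hM n3.symm hu, zero_div, zero_div, zero_add, zero_add]
    generalize hZ : (∑ ψ ∈ Finset.univ.erase (1 : ↥C →* ℂˣ),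
      csum ((⟨x, hxC⟩ : ↥C) : Cfsg.Sz F m) x (exX hF (rowM m) (-1) ψ)) = Z
    have hdeg : 0 < degM m := by obtain ⟨o1, o2, o3, o4, o5⟩ := deg_order hm hF; linarith
    have hre : -(‖Z‖ / 4) ≤ (Z / 4).re := by
      have h0 := Complex.abs_re_le_norm (Z / 4)
      rw [norm_div, Complex.norm_ofNat] at h0
      exact (abs_le.1 h0).1
    have hb := fam_torus_same hm hF hM' hM (good_M hm hF) rM hdeg hu hu 4 (by norm_num)
      (Or.inl (by rw [mM]; norm_num))
    rw [hZ, mM, cM, degM] at hb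
    simp only [Nat.cast_ofNat] at hb
    generalize (2 : ℝ) ^ m = r at hr2 hb ⊢
    obtain ⟨h1, h2, h3, h4, h5⟩ := bnd hr2
    obtain ⟨-, a0, -⟩ := small_q hr2
    obtain ⟨a1, -⟩ := small_w hr2
    have a : 4 * (4 * (2 * r ^ 2 - 2 * r + 1) - 4 ^ 2) / ((2 * r ^ 2 + 2 * r + 1) * (2 * r ^ 2 - 1)) ≤ 16 / 7 := by
      rw [div_le_iff₀ h5]
      nlinarith [mul_le_mul_of_nonneg_left (show (7 : ℝ) ≤ 2 * r ^ 2 - 1 by linarith)
        (show 0 ≤ 2 * r ^ 2 + 2 * r + 1 by nlinarith)]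
    rw [neg_sq, one_pow, one_mul, neg_div (r * (2 * r ^ 2 - 1)) 2]
    linarith

/-- the tori are small -/
theorem torus_lt {z : Cfsg.Sz F m} (hz : ¬ IsTwo z) :
    Nat.card ↥(Subgroup.centralizer ({z} : Set (Cfsg.Sz F m))) < 2 * Fintype.card F := by
  have hc := centralizer_card hm hF hz
  have h1 : 2 ^ (m + 1) * 2 ^ m = 2 ^ (2 * m + 1) := by rw [← pow_add]; congr 1; omega
  have h2 : 2 ≤ 2 ^ m := le_trans (le_of_eq (pow_one 2).symm) (Nat.pow_le_pow_right (by norm_num) hm)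
  have h3 : 2 ^ (m + 1) * 2 ≤ 2 ^ (2 * m + 1) := h1 ▸ Nat.mul_le_mul_left _ h2
  have h4 : 2 ≤ 2 ^ (m + 1) := le_trans h2 (Nat.pow_le_pow_right (by norm_num) (by omega))
  simp only [Set.mem_insert_iff, Set.mem_singleton_iff] at hc
  rw [hF]
  rcases hc with e | e | e <;> rw [e] <;> omega

/-- a subgroup of a free torus is not binary -/
theorem free_case {H : Subgroup (Cfsg.Sz F m)} {x : Cfsg.Sz F m} (hxH : x ∈ H) (hx : ¬ IsTwo x) (hfree : Free x)
    (hle : H ≤ Subgroup.centralizer ({x} : Set (Cfsg.Sz F m))) : ¬ IsBin H := by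
  classical
  set C := Subgroup.centralizer ({x} : Set (Cfsg.Sz F m)) with hC
  have hxC : x ∈ C := Subgroup.mem_centralizer_singleton_iff.2 rfl
  have hlt : Nat.card {y : Cfsg.Sz F m // y ∈ C ∧ IsConj x y} < classConst x x x := by
    refine lt_of_le_of_lt (Nat.card_le_card_of_injective (fun y => (⟨y.1, y.2.1⟩ : ↥C))
      fun y y' e => Subtype.ext (congrArg Subtype.val e :)) ?_
    have hd : (Nat.card ↥C : ℝ) ≤ 2 * (Fintype.card F : ℝ) := by exact_mod_cast (torus_lt hm hF hx).le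
    have hd0 : (0 : ℝ) < Nat.card ↥C := by exact_mod_cast Nat.card_pos (α := ↥C)
    have h8 : (8 : ℝ) ≤ (Fintype.card F : ℝ) := by exact_mod_cast eight_le_q hF hm
    have hK : (Nat.card {y // IsConj x y} : ℝ) * (Nat.card ↥C : ℝ) = (Nat.card (Cfsg.Sz F m) : ℝ) := by
      rw [card_isConj, ← Nat.cast_mul, Subgroup.index_mul_card]
    rw [← Nat.cast_lt (α := ℝ), classConst_real]
    have hGe : (Nat.card (Cfsg.Sz F m) : ℝ) =
        (Fintype.card F : ℝ) ^ 2 * ((Fintype.card F : ℝ) ^ 2 + 1) * ((Fintype.card F : ℝ) - 1) := by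
      rw [card_Sz hm hF, Nat.cast_mul, Nat.cast_mul, Nat.cast_sub Fintype.card_pos, Nat.cast_add, Nat.cast_pow,
        Nat.cast_one]
    rw [hGe] at hK ⊢
    have hc := cov_free hm hF hx hfree
    generalize (cov x x).re = A at hc ⊢
    generalize (Nat.card {y // IsConj x y} : ℝ) = K at hK ⊢
    generalize (Nat.card ↥C : ℝ) = d at hd hd0 hK ⊢
    generalize (Fintype.card F : ℝ) = q at hd h8 hK ⊢
    set G := q ^ 2 * (q ^ 2 + 1) * (q - 1) with hG
    have hG0 : 0 < G := by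
      have : 0 < q - 1 := by linarith
      positivity
    have e : K * K / G = G / (d * d) := by
      rw [div_eq_div_iff hG0.ne' (by positivity)]
      linear_combination (K * d + G) * hK
    rw [e]
    refine lt_of_lt_of_le ?_ (mul_le_mul_of_nonneg_left hc (by positivity))
    rw [div_mul_eq_mul_div, lt_div_iff₀ (by positivity)]
    have h1 : d * (d * d) ≤ 2 * q * (2 * q * (2 * q)) :=
      mul_le_mul hd (mul_le_mul hd hd hd0.le (by linarith)) (by positivity) (by linarith)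
    have h2 : 7 * (8 * q ^ 3) < G := by
      have h7 : (7 : ℝ) ≤ q - 1 := by linarith
      have hq3 : 8 * q ^ 3 ≤ q ^ 4 := by nlinarith [mul_le_mul_of_nonneg_right h8 (show 0 ≤ q ^ 3 by positivity)]
      have : q ^ 4 < q ^ 2 * (q ^ 2 + 1) := by nlinarith
      calc 7 * (8 * q ^ 3) < 7 * (q ^ 2 * (q ^ 2 + 1)) := by linarith
        _ ≤ G := by rw [hG, mul_comm 7]; exact mul_le_mul_of_nonneg_left h7 (by positivity)
    nlinarith
  obtain ⟨u, v, huv, hout⟩ := exists_decomp (S := (C : Set (Cfsg.Sz F m))) hlt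
  have h2 : x = u * x * u⁻¹ * (v * x * v⁻¹) := huv
  refine not_bin_of_witness (u := u) (v := v) (b := u * x * u⁻¹) (h := x) hxH ?_ ?_ ?_
  · rwa [show u⁻¹ * (u * x * u⁻¹) * u = x by group]
  · rw [show (u * x * u⁻¹)⁻¹ * x = v * x * v⁻¹ from inv_mul_eq_iff_eq_mul.2 h2,
      show v⁻¹ * (v * x * v⁻¹) * v = x by group]
    exact hxH
  intro e he heu hev
  -- commuting with a conjugate
  have key : ∀ {w e : Cfsg.Sz F m}, e ∈ C → w⁻¹ * e * w ∈ C → e ≠ 1 → w * x * w⁻¹ ∈ C := by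
    intro w e he hw he1
    rw [hC, ← ((nontwo_centralizer hm hF hx).2 e he he1).2, Subgroup.mem_centralizer_singleton_iff]
    have h := Subgroup.mem_centralizer_singleton_iff.1 hw
    calc w * x * w⁻¹ * e = w * (x * (w⁻¹ * e * w)) * w⁻¹ := by group
      _ = w * (w⁻¹ * e * w * x) * w⁻¹ := by rw [h]
      _ = e * (w * x * w⁻¹) := by group
  rcases eq_or_ne e 1 with rfl | he1
  · rw [inv_one, one_mul] at hev
    have hv := key hxC (hle hev) (fun e => hx ⟨0, by rw [e, one_pow]⟩)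
    refine hout ?_
    have := mul_mem hxC (inv_mem hv)
    rwa [show x * (v * x * v⁻¹)⁻¹ = u * x * u⁻¹ from mul_inv_eq_iff_eq_mul.2 h2] at this
  · exact hout (key (hle he) (hle heu) he1)

end CfsgLib.Lie.Suz.Binary
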