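import Cfsg.Agent.Lib.Lie.Suz.Binary.Count

/-!
# Binary coset actions: subgroups of torus normalisers with an involution
-/

set_option autoImplicit false
set_option linter.unusedSectionVars false

namespace CfsgLib.Lie.Suz.Binary

open Cfsg CfsgLib.Lie.Suz
open scoped MatrixGroups

variable {F : Type*} [Field F] [Fintype F] {m : ℕ}
variable (hm : 1 ≤ m) (hF : Fintype.card F = 2 ^ (2 * m + 1))

include hm hF

/-- involutions of a torus normaliser fixing a common point coincide -/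
theorem invol_unique {z a a' : Cfsg.Sz F m} (hz : ¬ IsTwo z) (ha : a ∈ NC z) (hao : orderOf a = 2)
    (ha' : a' ∈ NC z) (hao' : orderOf a' = 2) (hU : a ∈ U hF) (hU' : a' ∈ U hF) : a = a' := by
  have h := invol_mul_mem hm hF hz ha hao ha' hao'
  by_contra hne
  refine ((nontwo_centralizer hm hF hz).2 _ h fun e => hne ?_).1 (isTwo_of_mem_U hF (mul_mem hU hU'))
  rw [mul_eq_one_iff_eq_inv] at e
  rw [e]
  exact inv_eq_of_mul_eq_one_right (by rw [← sq]; exact orderOf_dvd_iff_pow_eq_one.1 hao'.dvd)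

/-- a point stabiliser meets a torus normaliser in at most four translations -/
theorem card_U_NC {z : Cfsg.Sz F m} (hz : ¬ IsTwo z) : Nat.card ↥(U hF ⊓ NC z) ≤ 4 := by
  classical
  set C := Subgroup.centralizer ({z} : Set (Cfsg.Sz F m))
  obtain ⟨k, hk, hN⟩ := nontwo_normalizer_index hm hF hz
  set N := U hF ⊓ NC z
  have hinj : Nat.card ↥N * Nat.card ↥C ≤ Nat.card ↥(NC z) := by
    rw [← Nat.card_prod]
    refine Nat.card_le_card_of_injective
      (fun p => ⟨(p.1 : Cfsg.Sz F m) * (p.2 : Cfsg.Sz F m),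
        mul_mem (Subgroup.mem_inf.1 p.1.2).2 (Subgroup.le_normalizer p.2.2)⟩) fun p q e => ?_
    have e' : (p.1 : Cfsg.Sz F m) * (p.2 : Cfsg.Sz F m) = (q.1 : Cfsg.Sz F m) * (q.2 : Cfsg.Sz F m) :=
      congrArg Subtype.val e
    have h1 : (q.1 : Cfsg.Sz F m)⁻¹ * (p.1 : Cfsg.Sz F m) = (q.2 : Cfsg.Sz F m) * (p.2 : Cfsg.Sz F m)⁻¹ := by
      rw [eq_mul_inv_iff_mul_eq, mul_assoc, e', inv_mul_cancel_left]
    have h2 : (q.1 : Cfsg.Sz F m)⁻¹ * (p.1 : Cfsg.Sz F m) = 1 := by
      by_contra hne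
      refine ((nontwo_centralizer hm hF hz).2 _ (h1 ▸ mul_mem q.2.2 (inv_mem p.2.2)) hne).1 ?_
      exact isTwo_of_mem_U hF (mul_mem (inv_mem (Subgroup.mem_inf.1 q.1.2).1) (Subgroup.mem_inf.1 p.1.2).1)
    have h3 : (p.1 : Cfsg.Sz F m) = q.1 := (inv_mul_eq_one.1 h2).symm
    exact Prod.ext (Subtype.ext h3) (Subtype.ext (mul_left_cancel (h3 ▸ e' :)))
  rw [hN] at hinj
  exact (Nat.le_of_mul_le_mul_right hinj Nat.card_pos).trans (Nat.le_of_dvd (by norm_num) hk)

theorem NC_conj {z g : Cfsg.Sz F m} (c : Cfsg.Sz F m) (hg : g ∈ NC z) : c * g * c⁻¹ ∈ NC (c * z * c⁻¹) := by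
  have h := Subgroup.map_normalizer_eq_of_bijective (Subgroup.centralizer ({z} : Set (Cfsg.Sz F m)))
    (f := (MulAut.conj c).toMonoidHom) (MulAut.conj c).bijective
  show c * g * c⁻¹ ∈ Subgroup.normalizer (_ : Set (Cfsg.Sz F m))
  rw [centralizer_conj, ← h]
  exact ⟨g, hg, rfl⟩

/-- a subgroup of a torus normaliser with an involution and a non-2-element is not binary -/
theorem norm_case {H : Subgroup (Cfsg.Sz F m)} {z : Cfsg.Sz F m} (hz : ¬ IsTwo z) (hle : H ≤ NC z) {b0 : F}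
    (hb0 : b0 ≠ 0) (ht : TS hF 0 b0 ∈ H) : ¬ IsBin H := by
  classical
  have hS := isSuzField hF
  set t := (TS hF 0 b0 : Cfsg.Sz F m) with ht0
  have hto : orderOf t = 2 := TS_order_two hF hb0
  have htt : t * t = 1 := by rw [← sq]; exact orderOf_dvd_iff_pow_eq_one.1 hto.dvd
  -- another involution of the centre
  obtain ⟨b1, hb10, hb1⟩ : ∃ b1 : F, b1 ≠ 0 ∧ b1 ≠ b0 := by
    by_contra hc
    push Not at hc
    have h := Finset.card_le_card (show (Finset.univ : Finset F) ⊆ {0, b0} from fun x _ => by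
      rcases eq_or_ne x 0 with e | e
      · simp [e]
      · simp [hc x e])
    have h2 : ({0, b0} : Finset F).card ≤ 2 := Finset.card_le_two
    rw [Finset.card_univ] at h
    have := eight_le_q hF hm
    omega
  have move : ∀ b : F, b ≠ 0 → ∃ k : Fˣ, HS hF k * t * (HS hF k)⁻¹ = TS hF 0 b := by
    intro b hb
    obtain ⟨k, hk⟩ := exists_kth_eq hF (m := m) (mul_ne_zero hb (inv_ne_zero hb0))
    exact ⟨k, by rw [ht0, H_conj_T hF, mul_zero, hk, mul_assoc, inv_mul_cancel₀ hb0, mul_one]⟩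
  obtain ⟨k, hk⟩ := move b1 hb10
  obtain ⟨l, hl⟩ := move (b1 + b0) (fun e => hb1 (by linear_combination e - b0 * two_eq_zero hS))
  have hne : (TS hF 0 b1 : Cfsg.Sz F m) ≠ t := fun e => hb1 (TS_inj hF e).2
  have hcomm : ∀ w ∈ U hF, w * t * w⁻¹ = t := by
    rintro w ⟨a, b, hab⟩
    obtain rfl : w = TS hF a b := Subtype.ext hab
    rw [mul_inv_eq_iff_eq_mul]
    exact Subtype.ext (T_zero_comm hS a b b0).symm
  -- a translation such that no involution is shared
  obtain ⟨w, hwU, hgood⟩ : ∃ w ∈ U hF, ∀ a ∈ H, orderOf a = 2 → (HS hF k * w)⁻¹ * a * (HS hF k * w) ∉ H := by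
    by_contra hc
    push Not at hc
    choose fa hfaH hfao hfa using fun w : ↥(U hF : Subgroup (Cfsg.Sz F m)) => hc w.1 w.2
    set A := {a : Cfsg.Sz F m // a ∈ H ∧ orderOf a = 2}
    haveI : Fintype (Cfsg.Sz F m) := Fintype.ofFinite _
    let f : ↥(U hF : Subgroup (Cfsg.Sz F m)) → A := fun w => ⟨fa w, hfaH w, hfao w⟩
    have hfne : ∀ w, (fa w) ∉ U hF := by
      intro w hU
      have e : fa w = t := invol_unique hm hF hz (hle (hfaH w)) (hfao w) (hle ht) hto hU (TS_mem_U hF 0 b0)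
      have h2 := hfa w
      rw [e] at h2
      -- the conjugate would be a second involution at the same point
      have hd : HS hF k * (w : Cfsg.Sz F m) ∈ Subgroup.normalizer
          ((U hF : Subgroup (Cfsg.Sz F m)) : Set (Cfsg.Sz F m)) := by
        rw [normalizer_U hm hF, ← smul_inf_iff, mul_smul, U_smul_inf hF w.2, HS_smul_inf hF]
      have hU2 := (Subgroup.mem_normalizer_iff''.1 hd t).1 (TS_mem_U hF 0 b0)
      have e2 := invol_unique hm hF hz (hle h2) (by
        rw [show (HS hF k * (w : Cfsg.Sz F m))⁻¹ * t * (HS hF k * w) = MulAut.conj (HS hF k * (w : Cfsg.Sz F m))⁻¹ t by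
          rw [MulAut.conj_apply, inv_inv], MulEquiv.orderOf_eq, hto]) (hle ht) hto hU2 (TS_mem_U hF 0 b0)
      refine hne ?_
      rw [← hk]
      calc HS hF k * t * (HS hF k)⁻¹ = HS hF k * ((w : Cfsg.Sz F m) * t * (w : Cfsg.Sz F m)⁻¹) * (HS hF k)⁻¹ := by
            rw [hcomm _ w.2]
        _ = HS hF k * (w : Cfsg.Sz F m) * ((HS hF k * (w : Cfsg.Sz F m))⁻¹ * t * (HS hF k * w)) *
              (HS hF k * (w : Cfsg.Sz F m))⁻¹ := by rw [e2]; group
        _ = t := by group
    -- the torus of the conjugate is determined by the shared involution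
    have hdet : ∀ w w', fa w = fa w' → (w⁻¹ * w' : ↥(U hF : Subgroup (Cfsg.Sz F m))).1 ∈ U hF ⊓ NC z := by
      intro w w' e
      refine Subgroup.mem_inf.2 ⟨(w⁻¹ * w').2, ?_⟩
      have hz' : ∀ v : ↥(U hF : Subgroup (Cfsg.Sz F m)), fa v = fa w →
          Subgroup.centralizer ({HS hF k * v.1 * z * (HS hF k * v.1)⁻¹} : Set (Cfsg.Sz F m)) =
            Subgroup.centralizer ({TS hF 0 b1 * fa w} : Set (Cfsg.Sz F m)) := by
        intro v hv
        have hzz : ¬ IsTwo (HS hF k * v.1 * z * (HS hF k * v.1)⁻¹) := fun h => hz (by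
          have := h.conj (HS hF k * v.1)⁻¹
          rwa [show (HS hF k * v.1)⁻¹ * (HS hF k * v.1 * z * (HS hF k * v.1)⁻¹) * (HS hF k * v.1)⁻¹⁻¹ = z by group]
            at this)
        have h1 : TS hF 0 b1 ∈ NC (HS hF k * v.1 * z * (HS hF k * v.1)⁻¹) := by
          have := NC_conj hm hF (HS hF k * v.1) (hle ht)
          rwa [show HS hF k * v.1 * t * (HS hF k * v.1)⁻¹ = HS hF k * (v.1 * t * v.1⁻¹) * (HS hF k)⁻¹ by group,
            hcomm _ v.2, hk] at this
        have h2 : fa w ∈ NC (HS hF k * v.1 * z * (HS hF k * v.1)⁻¹) := by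
          have := NC_conj hm hF (HS hF k * v.1) (hle (hfa v))
          rwa [show HS hF k * v.1 * ((HS hF k * v.1)⁻¹ * fa v * (HS hF k * v.1)) * (HS hF k * v.1)⁻¹ = fa v by group,
            hv] at this
        have h3 := invol_mul_mem hm hF hzz h1 (TS_order_two hF hb10) h2 (hfao w)
        refine ((nontwo_centralizer hm hF hzz).2 _ h3 fun e1 => hfne w ?_).2.symm
        rw [mul_eq_one_iff_inv_eq] at e1
        rw [← e1]
        exact inv_mem (TS_mem_U hF 0 b1)
      have e1 := (hz' w' e.symm).trans (hz' w rfl).symm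
      show (w : Cfsg.Sz F m)⁻¹ * (w' : Cfsg.Sz F m) ∈ Subgroup.normalizer
        ((Subgroup.centralizer ({z} : Set (Cfsg.Sz F m)) : Subgroup (Cfsg.Sz F m)) : Set (Cfsg.Sz F m))
      rw [centralizer_conj, centralizer_conj] at e1
      rw [Subgroup.mem_normalizer_iff]
      intro y
      set u := HS hF k * (w : Cfsg.Sz F m)
      set u' := HS hF k * (w' : Cfsg.Sz F m)
      have e2 : (w : Cfsg.Sz F m)⁻¹ * (w' : Cfsg.Sz F m) = u⁻¹ * u' := by simp only [u, u']; group
      have h4 := Subgroup.ext_iff.1 e1 (u' * y * u'⁻¹)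
      rw [Subgroup.mem_map_equiv, Subgroup.mem_map_equiv, MulAut.conj_symm_apply, MulAut.conj_symm_apply,
        show u'⁻¹ * (u' * y * u'⁻¹) * u' = y by group] at h4
      rw [e2, show u⁻¹ * u' * y * (u⁻¹ * u')⁻¹ = u⁻¹ * (u' * y * u'⁻¹) * u by group]
      exact h4
    haveI : Fintype A := Fintype.ofFinite _
    have hfib := Finset.card_le_mul_card_image (f := f) (Finset.univ) 4 fun a ha => by
      obtain ⟨w0, -, rfl⟩ := Finset.mem_image.1 ha
      refine le_trans ?_ (card_U_NC hm hF hz)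
      rw [← Fintype.card_coe, ← Nat.card_eq_fintype_card]
      refine Nat.card_le_card_of_injective
        (fun w => ⟨_, hdet w0 w.1 (congrArg Subtype.val (Finset.mem_filter.1 w.2).2).symm⟩) fun w w' e => ?_
      exact Subtype.ext (mul_left_cancel (Subtype.ext (congrArg Subtype.val e :)))
    rw [Finset.card_univ, ← Nat.card_eq_fintype_card, card_U hF] at hfib
    have hA : (Finset.univ.image f).card ≤ Nat.card ↥(Subgroup.centralizer ({z} : Set (Cfsg.Sz F m))) := by
      refine (Finset.card_le_univ _).trans ?_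
      rw [← Nat.card_eq_fintype_card]
      refine Nat.card_le_card_of_injective
        (fun a => ⟨t * a.1, invol_mul_mem hm hF hz (hle ht) hto (hle a.2.1) a.2.2⟩) fun a a' e => ?_
      exact Subtype.ext (mul_left_cancel (congrArg Subtype.val e :))
    have := torus_lt hm hF hz
    have h8 := eight_le_q hF hm
    nlinarith
  set u := HS hF k * w with hu
  have hub : u⁻¹ * TS hF 0 b1 * u = t := by
    rw [← hk, hu]
    calc (HS hF k * w)⁻¹ * (HS hF k * t * (HS hF k)⁻¹) * (HS hF k * w) = w⁻¹ * t * w := by group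
      _ = t := by rw [← inv_inv w, inv_inv w⁻¹]; simpa using hcomm w⁻¹ (inv_mem hwU)
  refine not_bin_of_witness (u := u) (v := HS hF l) (b := TS hF 0 b1) ht ?_ ?_ ?_
  · rw [hub]; exact ht
  · rw [TS_inv' hF, mul_zero, add_zero, ht0, TS_mul' hF, add_zero, mul_zero, add_zero, ← hl]
    rwa [show (HS hF l)⁻¹ * (HS hF l * t * (HS hF l)⁻¹) * HS hF l = t by group]
  intro e he heu hev
  rcases eq_or_ne e 1 with rfl | he1
  · rw [inv_one, one_mul] at hev
    have hd : HS hF l ∈ Subgroup.normalizer ((U hF : Subgroup (Cfsg.Sz F m)) : Set (Cfsg.Sz F m)) := by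
      rw [normalizer_U hm hF, ← smul_inf_iff, HS_smul_inf hF]
    have h1 := invol_unique hm hF hz (hle hev) (by
      rw [show (HS hF l)⁻¹ * t * HS hF l = MulAut.conj (HS hF l)⁻¹ t by rw [MulAut.conj_apply, inv_inv],
        MulEquiv.orderOf_eq, hto]) (hle ht) hto ((Subgroup.mem_normalizer_iff''.1 hd t).1 (TS_mem_U hF 0 b0))
      (TS_mem_U hF 0 b0)
    have h2 : (TS hF 0 (b1 + b0) : Cfsg.Sz F m) = t := by
      rw [← hl]
      conv_lhs => rw [← h1]
      group
    exact hb10 (by linear_combination (TS_inj hF h2).2)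
  by_cases het : IsTwo e
  · obtain ⟨i, hi⟩ := involution_power hF (two_cases hm hF het he1)
    refine hgood _ (pow_mem he i) hi ?_
    rw [show u⁻¹ * e ^ i * u = (u⁻¹ * e * u) ^ i by
      have := map_pow (MulAut.conj u⁻¹) e i
      simpa [MulAut.conj_apply] using this]
    exact pow_mem heu i
  · have hzz : ¬ IsTwo (u * z * u⁻¹) := fun h => hz (by
      have := h.conj u⁻¹
      rwa [show u⁻¹ * (u * z * u⁻¹) * u⁻¹⁻¹ = z by group] at this)
    have h1 : e ∈ NC (u * z * u⁻¹) := by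
      have := NC_conj hm hF u (hle heu)
      rwa [show u * (u⁻¹ * e * u) * u⁻¹ = e by group] at this
    have h2 : TS hF 0 b1 ∈ NC (u * z * u⁻¹) := by
      have := NC_conj hm hF u (hle ht)
      rwa [← hub, show u * (u⁻¹ * TS hF 0 b1 * u) * u⁻¹ = TS hF 0 b1 by group] at this
    refine hne (invol_unique hm hF het ?_ (TS_order_two hF hb10) ?_ hto (TS_mem_U hF 0 b1) (TS_mem_U hF 0 b0))
    · show TS hF 0 b1 ∈ Subgroup.normalizer _
      rw [← NC_eq_of_mem hm hF hzz h1 het]
      exact h2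
    · show t ∈ Subgroup.normalizer _
      rw [← NC_eq_of_mem hm hF hz (hle he) het]
      exact hle ht

end CfsgLib.Lie.Suz.Binary
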