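import Cfsg.Agent.Lib.Lie.Suz.Binary.Point
import Cfsg.Agent.Lib.Lie.Suz.Binary.Norm

/-!
# The binary coset actions of a Suzuki group
-/

set_option autoImplicit false
set_option linter.unusedSectionVars false

namespace CfsgLib.Lie.Suz.Binary

open Cfsg CfsgLib.Lie.Suz
open scoped MatrixGroups

/-- the centre of a subgroup inside the group -/
def ctr {G : Type*} [Group G] (K : Subgroup G) : Subgroup G := (Subgroup.center ↥K).map K.subtype

theorem mem_ctr {G : Type*} [Group G] {K : Subgroup G} {g : G} :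
    g ∈ ctr K ↔ g ∈ K ∧ ∀ k ∈ K, k * g = g * k := by
  constructor
  · rintro ⟨z, hz, rfl⟩
    exact ⟨z.2, fun k hk => congrArg Subtype.val (Subgroup.mem_center_iff.1 hz ⟨k, hk⟩ :)⟩
  · rintro ⟨hg, hc⟩
    exact ⟨⟨g, hg⟩, Subgroup.mem_center_iff.2 fun k => Subtype.ext (hc k.1 k.2), rfl⟩

theorem ctr_map {G G' : Type*} [Group G] [Group G'] (f : G ≃* G') (K : Subgroup G) :
    ctr (K.map f.toMonoidHom) = (ctr K).map f.toMonoidHom := by
  ext g
  simp only [mem_ctr, Subgroup.mem_map_equiv]
  refine and_congr_right fun _ => ⟨fun h k hk => ?_, fun h k hk => ?_⟩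
  · have := congrArg f.symm (h (f k) (by simpa using hk))
    simpa using this
  · have := congrArg f (h (f.symm k) hk)
    simpa using this

theorem IsBin.map_equiv {G G' : Type*} [Group G] [Group G'] {H : Subgroup G} (h : IsBin H) (f : G ≃* G') :
    IsBin (H.map f.toMonoidHom) := by
  intro n
  set K := H.map f.toMonoidHom with hK
  intro I J hn hpair
  let φ : G' ⧸ K → G ⧸ H := Quotient.lift (fun x : G' => ((f.symm x : G) : G ⧸ H)) fun x y hxy => by
    apply coset_eq
    have hxy' := Subgroup.mem_map_equiv.1 (QuotientGroup.leftRel_apply.1 hxy : x⁻¹ * y ∈ K)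
    rwa [map_mul, map_inv] at hxy'
  have hφ : ∀ (g : G') (z : G' ⧸ K), φ (g • z) = f.symm g • φ z := by
    intro g z
    induction z using QuotientGroup.induction_on with
    | H x => show ((f.symm (g * x) : G) : G ⧸ H) = ((f.symm g * f.symm x : G) : G ⧸ H); rw [map_mul]
  have hinj : Function.Injective φ := by
    intro z w hzw
    induction z using QuotientGroup.induction_on with
    | H x =>
      induction w using QuotientGroup.induction_on with
      | H y =>
        have h1 : (f.symm x)⁻¹ * f.symm y ∈ H := QuotientGroup.eq.1 hzw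
        rw [← map_inv, ← map_mul] at h1
        exact coset_eq (Subgroup.mem_map_equiv.2 h1)
  obtain ⟨g, hg⟩ := h n (fun i => φ (I i)) (fun i => φ (J i)) hn fun i j hij => by
    obtain ⟨g, g1, g2⟩ := hpair i j hij
    exact ⟨f.symm g, by rw [← hφ, g1], by rw [← hφ, g2]⟩
  exact ⟨f g, fun i => hinj (by rw [hφ, f.symm_apply_apply]; exact hg i)⟩

variable {F : Type*} [Field F] [Fintype F] {m : ℕ}
variable (hm : 1 ≤ m) (hF : Fintype.card F = 2 ^ (2 * m + 1))

include hm hF

theorem mem_ctr_U {e : Cfsg.Sz F m} : e ∈ ctr (U hF) ↔ ∃ b, e = TS hF 0 b := by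
  have hS := isSuzField hF
  rw [mem_ctr]
  constructor
  · rintro ⟨⟨a, b, hab⟩, hc⟩
    obtain rfl : e = TS hF a b := Subtype.ext hab
    have key : ∀ a', th m a' * a = th m a * a' := fun a' => by
      have h := hc (TS hF a' 0) (TS_mem_U hF a' 0)
      rw [TS_mul' hF, TS_mul' hF] at h
      have := (TS_inj hF h).2
      first
        | linear_combination this
        | linear_combination -this
        | linear_combination this + (th m a' * a - th m a * a') * two_eq_zero hS
    by_cases ha : a = 0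
    · exact ⟨b, by rw [ha]⟩
    · exfalso
      obtain ⟨a', ha'⟩ := exists_th_ne hm hF
      have h1 := key 1
      rw [th_one hS, one_mul, mul_one] at h1
      have h2 := key a'
      rw [← h1] at h2
      exact ha' (mul_right_cancel₀ ha (h2.trans (mul_comm _ _)))
  · rintro ⟨b, rfl⟩
    refine ⟨TS_mem_U hF 0 b, ?_⟩
    rintro k ⟨u, v, huv⟩
    obtain rfl : k = TS hF u v := Subtype.ext huv
    exact Subtype.ext (T_zero_comm hS u v b).symm

/-- a subgroup fixing a point -/
theorem fix_case {H : Subgroup (Cfsg.Sz F m)} (hbin : IsBin H) (hT : H ≠ ⊤) (hB : H ≠ ⊥)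
    (hfix : ∀ g ∈ H, g • oInf F m = oInf F m) : H = ctr (U hF) := by
  classical
  have hS := isSuzField hF
  by_cases hnt : ∃ x ∈ H, ¬ IsTwo x
  · exfalso
    obtain ⟨x, hxH, hx⟩ := hnt
    obtain ⟨a, b, k, rfl⟩ := (mem_stab_inf hm hF).1 (smul_inf_iff.1 (hfix x hxH))
    have hk : k ≠ 1 := fun e => hx (by rw [e, HS_one hF, mul_one]; exact isTwo_of_mem_U hF (TS_mem_U hF a b))
    obtain ⟨x0, y0, hxy⟩ := exists_second_fix hm hF (a := a) (b := b) hk
    set w := (TS hF x0 y0 : Cfsg.Sz F m) with hw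
    have hmem : w⁻¹ * (TS hF a b * HS hF k) * w ∈ MulAction.stabilizer (Cfsg.Sz F m) (suzukiPointInfinity F) ⊓
        MulAction.stabilizer (Cfsg.Sz F m) (suzukiPointZero F) := by
      refine Subgroup.mem_inf.2 ⟨smul_inf_iff.1 ?_, ?_⟩
      · simp only [mul_smul, hw, TS_smul_inf hF, HS_smul_inf hF]
        rw [inv_smul_eq_iff, TS_smul_inf hF]
      · rw [MulAction.mem_stabilizer_iff]
        show ((T m x0 y0)⁻¹ * (T m a b * Suz.H m k) * T m x0 y0) • suzukiPointZero F = suzukiPointZero F
        rw [mul_smul, mul_smul, T_zero_pt hS, show (T m a b * Suz.H m k) • pt m x0 y0 = pt m x0 y0 from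
          congrArg Subtype.val hxy, ← T_zero_pt hS, inv_smul_smul]
    obtain ⟨l, hl⟩ := (mem_stab_pair hm hF).1 hmem
    set H' := H.map (MulAut.conj w⁻¹).toMonoidHom with hH'
    have hbin' : IsBin H' := hbin.conj w⁻¹
    have hlH : HS hF l ∈ H' := by
      rw [← hl, hH']
      exact ⟨_, hxH, by simp⟩
    have hl1 : l ≠ 1 := fun e => hx ⟨0, by
      rw [e, HS_one hF] at hl
      rw [pow_zero, pow_one, show TS hF a b * HS hF k = w * (w⁻¹ * (TS hF a b * HS hF k) * w) * w⁻¹ by group, hl,
        mul_one, mul_inv_cancel]⟩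
    have hfix' : ∀ g ∈ H', g • oInf F m = oInf F m := by
      intro g hg
      rw [hH', mem_conjMap, inv_inv] at hg
      have h := hfix _ hg
      rw [mul_smul, mul_smul] at h
      have hwi : w⁻¹ • oInf F m = oInf F m := by rw [inv_smul_eq_iff, hw, TS_smul_inf hF]
      rw [hwi] at h
      calc g • oInf F m = w⁻¹ • w • g • oInf F m := (inv_smul_smul w _).symm
        _ = oInf F m := by rw [h, hwi]
    have hT' : H' ≠ ⊤ := fun e => hT (by
      apply Subgroup.map_injective (f := (MulAut.conj w⁻¹).toMonoidHom) (MulAut.conj w⁻¹).injective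
      rw [← hH', e]
      exact (Subgroup.map_top_of_surjective _ (MulAut.conj w⁻¹).surjective).symm)
    by_cases hU : U hF ≤ H'
    · exact U_le hm hF hT' hU hbin'
    · exact frobenius hm hF hfix' hl1 hlH hU hbin'
  · push Not at hnt
    have hHU : H ≤ U hF := fun g hg => mem_U_of_two hm hF (hnt g hg) (hfix g hg)
    by_cases h4 : ∃ x ∈ H, orderOf x = 4
    · obtain ⟨x, hxH, hx⟩ := h4
      exact absurd hbin (four_case hm hF hHU hxH hx)
    push Not at h4
    have hz : ∀ e ∈ H, ∃ b, e = TS hF 0 b := by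
      intro e he
      obtain ⟨a, b, hab⟩ := hHU he
      obtain rfl : e = TS hF a b := Subtype.ext hab
      by_cases ha : a = 0
      · exact ⟨b, by rw [ha]⟩
      · exact absurd (TS_order_four hF ha b) (h4 _ he)
    by_cases hall : ∀ b, TS hF 0 b ∈ H
    · ext e
      rw [mem_ctr_U hm hF]
      exact ⟨hz e, fun ⟨b, hb⟩ => hb ▸ hall b⟩
    · push Not at hall
      exact absurd hbin (elementary hm hF hz hB hall)

theorem fix_any {H : Subgroup (Cfsg.Sz F m)} (hbin : IsBin H) (hT : H ≠ ⊤) (hB : H ≠ ⊥)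
    {a : suzukiOvoid F m} (hfix : ∀ g ∈ H, g • a = a) : ∃ c, H = ctr ((U hF).map (MulAut.conj c).toMonoidHom) := by
  haveI := trans_ovoid hF (m := m)
  obtain ⟨c, hc⟩ := MulAction.exists_smul_eq (Cfsg.Sz F m) (oInf F m) a
  refine ⟨c, ?_⟩
  have h := fix_case hm hF (hbin.conj c⁻¹) (fun e => hT ?_) (fun e => hB ?_) ?_
  · rw [ctr_map, ← h]
    ext g
    rw [mem_conjMap, mem_conjMap, inv_inv, show c * (c⁻¹ * g * c) * c⁻¹ = g by group]
  · apply Subgroup.map_injective (f := (MulAut.conj c⁻¹).toMonoidHom) (MulAut.conj c⁻¹).injective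
    rw [e]
    exact (Subgroup.map_top_of_surjective _ (MulAut.conj c⁻¹).surjective).symm
  · apply Subgroup.map_injective (f := (MulAut.conj c⁻¹).toMonoidHom) (MulAut.conj c⁻¹).injective
    rw [e, Subgroup.map_bot]
  · intro g hg
    rw [mem_conjMap, inv_inv] at hg
    have h := hfix _ hg
    rw [mul_smul, mul_smul, ← hc, inv_smul_smul] at h
    exact MulAction.injective c h

/-- the binary coset actions -/
theorem classification {H : Subgroup (Cfsg.Sz F m)} (hT : H ≠ ⊤) (hbin : IsBin H) (hB : H ≠ ⊥) :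
    ∃ c, H = ctr ((U hF).map (MulAut.conj c).toMonoidHom) := by
  classical
  rcases subgroup_type hm hF hT with ⟨P, hP⟩ | ⟨z, hz, hle⟩ | ⟨c, k, hk1, hkm, hdvd, hc⟩
  · obtain ⟨c, hc⟩ := sylow_two_conj hm hF P
    refine fix_any hm hF hbin hT hB (a := c • oInf F m) fun g hg => ?_
    have := hP hg
    rw [hc] at this
    exact (normalizer_conj_U hm hF c g).1 this
  · by_cases hnt : ∃ h ∈ H, ¬ IsTwo h
    · obtain ⟨h, hh, hh2⟩ := hnt
      have hNC : H ≤ NC h := fun g hg => by
        show g ∈ Subgroup.normalizer _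
        rw [← NC_eq_of_mem hm hF hz (hle hh) hh2]
        exact hle hg
      by_cases htwo : ∃ e ∈ H, e ≠ 1 ∧ IsTwo e
      · exfalso
        obtain ⟨e, he, he1, het⟩ := htwo
        obtain ⟨i, hi⟩ := involution_power hF (two_cases hm hF het he1)
        obtain ⟨c, a, b, hc⟩ := exists_conj_TS hm hF (isTwo_of_order hF (Or.inl hi)).1
        have ho : orderOf (TS hF a b : Cfsg.Sz F m) = 2 := by
          rw [← hc, show c * e ^ i * c⁻¹ = MulAut.conj c (e ^ i) from rfl, MulEquiv.orderOf_eq, hi]
        obtain rfl : a = 0 := by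
          by_contra ha
          rw [TS_order_four hF ha b] at ho
          norm_num at ho
        have hb : b ≠ 0 := fun e => by rw [e, TS_zero' hF, orderOf_one] at ho; norm_num at ho
        refine norm_case hm hF (H := H.map (MulAut.conj c).toMonoidHom) (z := c * h * c⁻¹) (fun h' => hh2 ?_) ?_ hb
          ⟨_, pow_mem he i, hc⟩ (hbin.conj c)
        · have := h'.conj c⁻¹
          rwa [show c⁻¹ * (c * h * c⁻¹) * c⁻¹⁻¹ = h by group] at this
        · rintro _ ⟨g, hg, rfl⟩
          exact NC_conj hm hF c (hNC hg)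
      · push Not at htwo
        have hC : H ≤ Subgroup.centralizer ({h} : Set (Cfsg.Sz F m)) := fun g hg => by
          rcases eq_or_ne g 1 with rfl | hg1
          · exact one_mem _
          · exact mem_C_of_nontwo hm hF hh2 (hNC hg) (htwo g hg hg1)
        by_cases hfree : Free h
        · exact absurd hbin (free_case hm hF hh hh2 hfree hC)
        · obtain ⟨a, b, hab, ha, hb⟩ := two_fixed_of_not_free hm hF hh2 hfree
          obtain ⟨c, hc⟩ := centralizer_two_fixed hm hF (fun e => hh2 ⟨0, by rw [e, one_pow]⟩) hab ha hb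
          refine fix_any hm hF hbin hT hB (a := c • oInf F m) fun g hg => ?_
          obtain ⟨_, ⟨k, rfl⟩, rfl⟩ := hc (hC hg)
          show (c * HS hF k * c⁻¹) • (c • oInf F m) = c • oInf F m
          rw [mul_smul, inv_smul_smul, mul_smul, HS_smul_inf hF]
    · push Not at hnt
      obtain ⟨a, ha⟩ := exists_fix_of_two hm hF (P := H) fun g => by
        obtain ⟨i, hi⟩ := hnt g g.2
        exact ⟨i, Subtype.ext (by rw [Subgroup.coe_pow]; exact hi)⟩
      exact fix_any hm hF hbin hT hB ha
  · have := hbin.conj c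
    rw [hc] at this
    exact absurd this (subfield hm hF hk1 hkm hdvd)

theorem main (H : Subgroup (Cfsg.Sz F m)) (hT : H ≠ ⊤) :
    IsBin H ↔ (H = ⊥ ∨ ∃ P : Sylow 2 (Cfsg.Sz F m), H = ctr (P : Subgroup (Cfsg.Sz F m))) := by
  constructor
  · intro hbin
    by_cases hB : H = ⊥
    · exact Or.inl hB
    obtain ⟨c, hc⟩ := classification hm hF hT hbin hB
    obtain ⟨P0, hP0⟩ := exists_U_sylow hm hF
    refine Or.inr ⟨c • P0, hc.trans ?_⟩
    rw [Sylow.coe_subgroup_smul, hP0]
    rfl
  · rintro (rfl | ⟨P, rfl⟩)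
    · exact isBin_bot
    · obtain ⟨c, hc⟩ := sylow_two_conj hm hF P
      rw [hc, ctr_map]
      exact (center_bin hm hF fun e => mem_ctr_U hm hF).conj c

end CfsgLib.Lie.Suz.Binary
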