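import Cfsg.Agent.Lib.Lie.Suz.Binary.Borel
import Cfsg.Agent.Lib.Lie.Suz.Sub.Fixity

/-!
# Binary coset actions: the centre, elementary subgroups, Frobenius subgroups
-/

set_option autoImplicit false
set_option linter.unusedSectionVars false

namespace CfsgLib.Lie.Suz.Binary

open Cfsg CfsgLib.Lie.Suz
open scoped MatrixGroups

variable {F : Type*} [Field F] [Fintype F] {m : ℕ}
variable (hm : 1 ≤ m) (hF : Fintype.card F = 2 ^ (2 * m + 1))

include hm hF

/-- an element of `TS 0 *` -/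
theorem zero_row {e : Cfsg.Sz F m} :
    (∃ b, e = TS hF 0 b) ↔ e ∈ U hF ∧ e * e = 1 := by
  constructor
  · rintro ⟨b, rfl⟩
    exact ⟨TS_mem_U hF 0 b, by rw [TS_sq' hF, mul_zero, TS_zero' hF]⟩
  · rintro ⟨⟨a, b, h⟩, h2⟩
    obtain rfl : e = TS hF a b := Subtype.ext h
    rw [TS_sq' hF, ← TS_zero' hF] at h2
    refine ⟨b, ?_⟩
    rcases mul_eq_zero.1 (TS_inj hF h2).2 with h0 | h0
    · rw [th_eq_zero (isSuzField hF) h0]
    · rw [h0]

/-- two involutions with involutory product fix the same point -/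
theorem same_fix {a b : Cfsg.Sz F m} (ha : a * a = 1) (hb : b * b = 1) (ha1 : a ≠ 1) (hb1 : b ≠ 1)
    (hab : a * b = b * a) {p : suzukiOvoid F m} (hp : a • p = p) : b • p = p := by
  obtain ⟨p0, hp0, huniq⟩ := two_fix hm hF ha1 (g := a) ⟨1, by rw [pow_one, sq, ha]⟩
  obtain ⟨q, hq, huniq'⟩ := two_fix hm hF hb1 (g := b) ⟨1, by rw [pow_one, sq, hb]⟩
  have h1 : a • q = q := huniq' _ (by rw [← mul_smul, ← hab, mul_smul, hq])
  rw [huniq p hp, ← huniq q h1, hq]

/-- the centre of the translations gives a binary action -/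
theorem center_bin {Z : Subgroup (Cfsg.Sz F m)} (hZ : ∀ e, e ∈ Z ↔ ∃ b, e = TS hF 0 b) : IsBin Z := by
  classical
  intro n I J hn h
  have h0 : (⟨0, by omega⟩ : Fin n) ≠ ⟨1, by omega⟩ := by simp
  -- choose representatives
  obtain ⟨g0, hg0, -⟩ := h _ _ h0
  choose x hx using fun i => QuotientGroup.mk_surjective (I i)
  set i0 : Fin n := ⟨0, by omega⟩
  -- the stabiliser of the coset `x Z`
  have stab : ∀ (i : Fin n) (g g' : Cfsg.Sz F m), g • I i = g' • I i ↔ (x i)⁻¹ * (g⁻¹ * g') * x i ∈ Z := by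
    intro i g g'
    rw [← hx i]
    show ((g * x i : Cfsg.Sz F m) : Cfsg.Sz F m ⧸ Z) = ((g' * x i : Cfsg.Sz F m) : Cfsg.Sz F m ⧸ Z) ↔ _
    rw [QuotientGroup.eq, show (g * x i)⁻¹ * (g' * x i) = (x i)⁻¹ * (g⁻¹ * g') * x i by group]
  -- the fixed point of the stabiliser
  have fixp : ∀ (i : Fin n) (w : Cfsg.Sz F m), (x i)⁻¹ * w * x i ∈ Z → w * w = 1 ∧ w • (x i • oInf F m) = x i • oInf F m := by
    intro i w hw
    obtain ⟨hU, h2⟩ := (zero_row hm hF).1 ((hZ _).1 hw)
    refine ⟨?_, ?_⟩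
    · have e : (x i)⁻¹ * (w * w) * x i = 1 := by rw [← h2]; group
      calc w * w = x i * ((x i)⁻¹ * (w * w) * x i) * (x i)⁻¹ := by group
        _ = 1 := by rw [e, mul_one, mul_inv_cancel]
    · have := U_smul_inf hF hU
      rwa [mul_smul, mul_smul, inv_smul_eq_iff] at this
  by_cases hall : ∀ i, x i • oInf F m = x i0 • oInf F m
  · -- all stabilisers are equal: every element doing one point does all
    refine ⟨g0, fun i => ?_⟩
    by_cases hi : i = i0
    · subst hi; exact hg0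
    obtain ⟨g, a, b⟩ := h i0 i (Ne.symm hi)
    rw [← b]
    have h1 := (stab i0 g0 g).1 (hg0.trans a.symm)
    rw [stab i]
    -- same stabiliser as at the base
    have hd : (x i0)⁻¹ * x i ∈ Subgroup.normalizer ((U hF : Subgroup (Cfsg.Sz F m)) : Set (Cfsg.Sz F m)) := by
      rw [normalizer_U hm hF, ← smul_inf_iff, mul_smul, hall i, inv_smul_smul]
    obtain ⟨hU, h2⟩ := (zero_row hm hF).1 ((hZ _).1 h1)
    refine (hZ _).2 ((zero_row hm hF).2 ⟨?_, ?_⟩)
    · have := (Subgroup.mem_normalizer_iff''.1 hd ((x i0)⁻¹ * (g0⁻¹ * g) * x i0)).1 hU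
      rwa [show ((x i0)⁻¹ * x i)⁻¹ * ((x i0)⁻¹ * (g0⁻¹ * g) * x i0) * ((x i0)⁻¹ * x i) =
        (x i)⁻¹ * (g0⁻¹ * g) * x i by group] at this
    · obtain ⟨hw, -⟩ := fixp i0 _ h1
      calc (x i)⁻¹ * (g0⁻¹ * g) * x i * ((x i)⁻¹ * (g0⁻¹ * g) * x i)
          = (x i)⁻¹ * (g0⁻¹ * g * (g0⁻¹ * g)) * x i := by group
        _ = 1 := by rw [hw, mul_one, inv_mul_cancel]
  · push Not at hall
    obtain ⟨i1, hi1⟩ := hall
    have hne : i0 ≠ i1 := fun e => hi1 (e ▸ rfl)
    obtain ⟨g, ga, gb⟩ := h i0 i1 hne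
    refine ⟨g, fun i => ?_⟩
    by_cases hi : i = i0
    · subst hi; exact ga
    by_cases hi' : i = i1
    · subst hi'; exact gb
    obtain ⟨g', a', b'⟩ := h i0 i (Ne.symm hi)
    obtain ⟨g'', a'', b''⟩ := h i1 i (Ne.symm hi')
    rw [← b', stab i]
    set w := g⁻¹ * g' with hw
    set v := g⁻¹ * g'' with hv
    have hw0 := (stab i0 g g').1 (ga.trans a'.symm)
    have hv1 := (stab i1 g g'').1 (gb.trans a''.symm)
    have hwv := (stab i g'' g').1 (b''.trans b'.symm)
    obtain ⟨w2, wfix⟩ := fixp i0 w hw0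
    obtain ⟨v2, vfix⟩ := fixp i1 v hv1
    have e : g''⁻¹ * g' = v⁻¹ * w := by rw [hv, hw]; group
    rw [e] at hwv
    obtain ⟨z2, zfix⟩ := fixp i _ hwv
    rcases eq_or_ne w 1 with hw1 | hw1
    · rw [hw1, mul_one, inv_mul_cancel]; exact one_mem _
    have hvi : v⁻¹ = v := inv_eq_of_mul_eq_one_right v2
    rw [hvi] at z2 zfix hwv
    by_cases hv1' : v = 1
    · rw [hv1', one_mul] at hwv; exact hwv
    exfalso
    have hcomm : w * v = v * w := by
      calc w * v = (v * v) * (w * v) * (w * w) := by rw [v2, w2, one_mul, mul_one]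
        _ = v * (v * w * (v * w)) * w := by group
        _ = v * w := by rw [z2, mul_one]
    have h1 : v • (x i0 • oInf F m) = x i0 • oInf F m := same_fix hm hF w2 v2 hw1 hv1' hcomm wfix
    obtain ⟨p0, -, huniq⟩ := two_fix hm hF hv1' (g := v) ⟨1, by rw [pow_one, sq, v2]⟩
    exact hi1 ((huniq _ vfix).trans (huniq _ h1).symm)

/-- the ratios of the members of an additive subgroup -/
noncomputable def ratios (W : Finset F) : Finset F :=
  letI := Classical.decEq F
  insert 0 (((W.erase 0) ×ˢ (W.erase 0)).image fun p => p.1 / p.2)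

theorem exists_outside {W : Finset F} (hW : W.card ≤ 2 ^ m) (h0 : (0 : F) ∈ W) :
    ∃ a : F, a ∉ ratios W ∧ 1 + a ∉ ratios W := by
  classical
  by_contra hc
  push Not at hc
  have hsub : (Finset.univ : Finset F) ⊆ ratios W ∪ (ratios W).image (fun a => a - 1) := by
    intro a _
    rw [Finset.mem_union]
    by_cases h : a ∈ ratios W
    · exact Or.inl h
    · exact Or.inr (Finset.mem_image.2 ⟨1 + a, hc a h, by ring⟩)
  have hQ : (ratios W).card ≤ (W.card - 1) * (W.card - 1) + 1 := by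
    refine (Finset.card_insert_le _ _).trans (Nat.add_le_add_right (Finset.card_image_le.trans (le_of_eq ?_)) 1)
    rw [Finset.card_product, Finset.card_erase_of_mem h0]
  have h1 := (Finset.card_le_card hsub).trans (Finset.card_union_le _ _)
  have h2 := Finset.card_image_le (s := ratios W) (f := fun a => a - 1)
  rw [Finset.card_univ, hF] at h1
  have h3 : 2 ≤ 2 ^ m := le_trans (le_of_eq (pow_one 2).symm) (Nat.pow_le_pow_right (by norm_num) hm)
  have h4 : (W.card - 1) * (W.card - 1) ≤ (2 ^ m - 1) * (2 ^ m - 1) := Nat.mul_le_mul (by omega) (by omega)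
  have h5 : 2 ^ (2 * m + 1) = 2 * (2 ^ m * 2 ^ m) := by rw [pow_succ', mul_comm 2 m, pow_mul, sq]
  obtain ⟨y, hy⟩ : ∃ y, 2 ^ m = y + 2 := ⟨2 ^ m - 2, by omega⟩
  rw [hy] at h4 h5
  rw [show y + 2 - 1 = y + 1 by omega] at h4
  nlinarith

/-- an element outside the ratios moves the subgroup off itself -/
theorem ratio_mem {W : Finset F} {a y w : F} (hy : y ∈ W) (hw : w ∈ W) (hy0 : y ≠ 0) (e : y = a * w) :
    a ∈ ratios W := by
  classical
  have hw0 : w ≠ 0 := fun h => hy0 (by rw [e, h, mul_zero])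
  refine Finset.mem_insert_of_mem (Finset.mem_image.2 ⟨(y, w), ?_, ?_⟩)
  · exact Finset.mem_product.2 ⟨Finset.mem_erase.2 ⟨hy0, hy⟩, Finset.mem_erase.2 ⟨hw0, hw⟩⟩
  · show y / w = a
    rw [e, mul_div_assoc, div_self hw0, mul_one]

theorem ratios_inv {W : Finset F} {a : F} (h : a ∈ ratios W) : a⁻¹ ∈ ratios W := by
  classical
  rcases Finset.mem_insert.1 h with rfl | h
  · rw [inv_zero]; exact Finset.mem_insert_self _ _
  · obtain ⟨⟨y, w⟩, hyw, rfl⟩ := Finset.mem_image.1 h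
    obtain ⟨hy, hw⟩ := Finset.mem_product.1 hyw
    exact Finset.mem_insert_of_mem (Finset.mem_image.2 ⟨(w, y), Finset.mem_product.2 ⟨hw, hy⟩, (inv_div y w).symm⟩)

/-- the annihilator of a set under the sign pairing -/
noncomputable def perp (m : ℕ) (E : Finset F) : Finset F :=
  letI := Classical.decPred fun y : F => ∀ x ∈ E, eps m (x * y) = 1
  Finset.univ.filter fun y => ∀ x ∈ E, eps m (x * y) = 1

theorem mem_perp {E : Finset F} {y : F} : y ∈ perp m E ↔ ∀ x ∈ E, eps m (x * y) = 1 := by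
  classical
  unfold perp
  simp

/-- the orders of a subgroup and its annihilator -/
theorem card_perp {E : Finset F} (h0 : (0 : F) ∈ E) (hadd : ∀ x ∈ E, ∀ y ∈ E, x + y ∈ E) :
    E.card * (perp m E).card = Fintype.card F := by
  classical
  have hS := isSuzField hF
  have key : ∀ y : F, ∑ x ∈ E, eps m (x * y) = if y ∈ perp m E then (E.card : ℂ) else 0 := by
    intro y
    split_ifs with hy
    · rw [Finset.sum_congr rfl (g := fun _ => (1 : ℂ)) fun x hx => (mem_perp hm hF).1 hy x hx]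
      simp
    · rw [mem_perp hm hF] at hy
      push Not at hy
      obtain ⟨x0, hx0, hne⟩ := hy
      have e : ∑ x ∈ E, eps m (x * y) = eps m (x0 * y) * ∑ x ∈ E, eps m (x * y) := by
        rw [Finset.mul_sum]
        refine Finset.sum_nbij' (fun x => x0 + x) (fun x => x0 + x) (fun x hx => hadd _ hx0 _ hx)
          (fun x hx => hadd _ hx0 _ hx) (fun x _ => ?_) (fun x _ => ?_) (fun x _ => ?_)
        · rw [← add_assoc, add_self hS, zero_add]
        · rw [← add_assoc, add_self hS, zero_add]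
        · rw [add_mul, eps_add hF, ← mul_assoc, (eps_sign hF).sq, one_mul]
      have h1 : (eps m (x0 * y) - 1) * ∑ x ∈ E, eps m (x * y) = 0 := by rw [sub_mul, one_mul, ← e, sub_self]
      exact (mul_eq_zero.1 h1).resolve_left (sub_ne_zero.2 hne)
  have h : ∑ y : F, ∑ x ∈ E, eps m (x * y) = (Fintype.card F : ℂ) := by
    rw [Finset.sum_comm, Finset.sum_eq_single (0 : F) ?_ (fun hh => absurd h0 hh)]
    · simp [(eps_sign hF).map_zero]
    · intro x _ hx
      exact ((eps_sign hF).comp_mul hx).sum_eq_zero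
  rw [Finset.sum_congr rfl fun y _ => key y, Finset.sum_ite_mem, Finset.univ_inter, Finset.sum_const,
    nsmul_eq_mul] at h
  rw [mul_comm]
  exact_mod_cast h

theorem mul_TS_zero (a b : F) : (TS hF 0 a : Cfsg.Sz F m) * TS hF 0 b = TS hF 0 (a + b) := by
  rw [TS_mul' hF, add_zero, mul_zero, add_zero]

/-- a non-trivial proper subgroup of the centre is not binary -/
theorem elementary {H : Subgroup (Cfsg.Sz F m)} (hle : ∀ e ∈ H, ∃ b, e = TS hF 0 b) (hH : H ≠ ⊥)
    (hZ : ∃ b, TS hF 0 b ∉ H) : ¬ IsBin H := by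
  classical
  have hS := isSuzField hF
  set E : Finset F := Finset.univ.filter fun b => TS hF 0 b ∈ H with hEdef
  have hE : ∀ b, b ∈ E ↔ TS hF 0 b ∈ H := fun b => by simp [hEdef]
  have hE0 : (0 : F) ∈ E := (hE 0).2 (by rw [TS_zero' hF]; exact one_mem _)
  have hEadd : ∀ x ∈ E, ∀ y ∈ E, x + y ∈ E := fun x hx y hy =>
    (hE _).2 (mul_TS_zero hm hF x y ▸ mul_mem ((hE x).1 hx) ((hE y).1 hy))
  obtain ⟨e0, he0E, he0⟩ : ∃ e0 ∈ E, e0 ≠ 0 := by
    by_contra hc
    push Not at hc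
    refine hH ((Subgroup.eq_bot_iff_forall _).2 fun e he => ?_)
    obtain ⟨b, rfl⟩ := hle e he
    rw [hc b ((hE b).2 he), TS_zero' hF]
  -- conjugation by the torus scales
  have scale : ∀ c : F, c ≠ 0 → ∃ u : Cfsg.Sz F m, ∀ b, u⁻¹ * TS hF 0 (c * b) * u = TS hF 0 b := by
    intro c hc
    obtain ⟨k, hk⟩ := exists_kth_eq hF (m := m) (inv_ne_zero hc)
    refine ⟨(HS hF k)⁻¹, fun b => ?_⟩
    rw [inv_inv, H_conj_T hF, mul_zero, hk, ← mul_assoc, inv_mul_cancel₀ hc, one_mul]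
  have reduce : ∀ (a β h0 x y : F), a ≠ 0 → β ≠ 0 → h0 ∈ E → x ∈ E → y ∈ E → a * x + β * y = h0 →
      (∀ z ∈ E, ∀ x' ∈ E, z = a * x' → ∀ y' ∈ E, z + h0 ≠ β * y') → ¬ IsBin H := by
    intro a β h0 x y ha hβ hh0 hx hy hsum hno
    obtain ⟨u, hu⟩ := scale a ha
    obtain ⟨v, hv⟩ := scale β hβ
    have einv : ∀ b : F, (TS hF 0 b : Cfsg.Sz F m)⁻¹ = TS hF 0 b := fun b => by
      rw [TS_inv' hF, mul_zero, add_zero]
    refine not_bin_of_witness (u := u) (v := v) (b := TS hF 0 (a * x)) ((hE h0).1 hh0)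
      (by rw [hu]; exact (hE x).1 hx) ?_ ?_
    · rw [einv, mul_TS_zero hm hF, show a * x + h0 = β * y by linear_combination -hsum + a * x * two_eq_zero hS, hv]
      exact (hE y).1 hy
    · intro e he heu hev
      obtain ⟨z, rfl⟩ := hle e he
      rw [show z = a * (a⁻¹ * z) by field_simp, hu] at heu
      rw [einv, mul_TS_zero hm hF, show z + h0 = β * (β⁻¹ * (z + h0)) by field_simp, hv] at hev
      exact hno z ((hE z).2 he) _ ((hE _).2 heu) (by field_simp) _ ((hE _).2 hev) (by field_simp)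
  by_cases hsmall : E.card ≤ 2 ^ m
  · obtain ⟨a, ha, ha1⟩ := exists_outside hm hF hsmall hE0
    have ha0 : a ≠ 0 := fun e => ha (e ▸ Finset.mem_insert_self _ _)
    have hb0 : 1 + a ≠ 0 := fun e => ha1 (e ▸ Finset.mem_insert_self _ _)
    refine reduce a (1 + a) e0 e0 e0 ha0 hb0 he0E he0E he0E
      (by linear_combination a * e0 * two_eq_zero hS) ?_
    intro z hz x' hx' ez y' hy' e
    have hz0 : z = 0 := by
      by_contra h
      exact ha (ratio_mem hm hF hz hx' h ez)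
    rw [hz0, zero_add] at e
    exact ha1 (ratio_mem hm hF he0E hy' he0 e)
  · set W := perp m E with hWdef
    have hcard := card_perp hm hF hE0 hEadd
    have hW0 : (0 : F) ∈ W := (mem_perp hm hF).2 fun x _ => by rw [mul_zero, (eps_sign hF).map_zero]
    have hWadd : ∀ x ∈ W, ∀ y ∈ W, x + y ∈ W := fun x hx y hy => (mem_perp hm hF).2 fun e he => by
      rw [mul_add, eps_add hF, (mem_perp hm hF).1 hx e he, (mem_perp hm hF).1 hy e he, one_mul]
    have hWsmall : W.card ≤ 2 ^ m := by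
      by_contra hc
      have h1 : (2 ^ m + 1) * (2 ^ m + 1) ≤ E.card * W.card := Nat.mul_le_mul (by omega) (by omega)
      rw [hcard, hF] at h1
      obtain ⟨j, -, hj⟩ : ∃ j ≤ 2 * m + 1, E.card = 2 ^ j :=
        (Nat.dvd_prime_pow Nat.prime_two).1 (hF ▸ hcard ▸ dvd_mul_right _ _)
      obtain ⟨i, -, hi⟩ : ∃ i ≤ 2 * m + 1, W.card = 2 ^ i :=
        (Nat.dvd_prime_pow Nat.prime_two).1 (hF ▸ hcard ▸ dvd_mul_left _ _)
      have hj' : m + 1 ≤ j := (Nat.pow_lt_pow_iff_right (by norm_num)).1 (hj ▸ Nat.lt_of_not_le hsmall)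
      have hi' : m + 1 ≤ i := (Nat.pow_lt_pow_iff_right (by norm_num)).1 (hi ▸ Nat.lt_of_not_le hc)
      rw [hj, hi, ← pow_add, hF] at hcard
      have := Nat.pow_right_injective (le_refl 2) hcard
      omega
    obtain ⟨w0, hw0W, hw0⟩ : ∃ w0 ∈ W, w0 ≠ 0 := by
      obtain ⟨b, hb⟩ := hZ
      by_contra hc
      push Not at hc
      have h1 : W.card = 1 := Finset.card_eq_one.2 ⟨0, Finset.eq_singleton_iff_unique_mem.2 ⟨hW0, hc⟩⟩
      rw [← hWdef, h1, mul_one] at hcard
      exact hb ((hE b).1 (Finset.eq_univ_of_card E hcard ▸ Finset.mem_univ b))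
    obtain ⟨t, ht, ht1⟩ := exists_outside hm hF hWsmall hW0
    set a := t⁻¹ with hadef
    have ha : a ∉ ratios W := fun h => ht (by have := ratios_inv hm hF h; rwa [hadef, inv_inv] at this)
    have ha0 : a ≠ 0 := fun e => ha (e ▸ Finset.mem_insert_self _ _)
    have ha1 : 1 + a⁻¹ ∉ ratios W := by rwa [hadef, inv_inv]
    have hβ0 : 1 + a ≠ 0 := fun e => ha1 (by
      rw [show a⁻¹ = (1 : F) by
        rw [show a = 1 by linear_combination e - two_eq_zero hS, inv_one], add_self hS]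
      exact Finset.mem_insert_self _ _)
    -- an element of E seen by the functional
    obtain ⟨h0, hh0, hval⟩ : ∃ h0 ∈ E, eps m (h0 * (w0 * a)) ≠ 1 := by
      by_contra hc
      push Not at hc
      exact ha (ratio_mem hm hF ((mem_perp hm hF).2 hc) hw0W (mul_ne_zero hw0 ha0) (mul_comm _ _))
    -- the sum of the two translates is everything
    set S := (E ×ˢ E).image (fun p => a⁻¹ * p.1 + (1 + a)⁻¹ * p.2) with hSdef
    have hmemS : ∀ {z}, z ∈ S ↔ ∃ x ∈ E, ∃ y ∈ E, a⁻¹ * x + (1 + a)⁻¹ * y = z := by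
      intro z
      simp only [hSdef, Finset.mem_image, Finset.mem_product, Prod.exists]
      exact ⟨fun ⟨x, y, ⟨hx, hy⟩, e⟩ => ⟨x, hx, y, hy, e⟩, fun ⟨x, hx, y, hy, e⟩ => ⟨x, y, ⟨hx, hy⟩, e⟩⟩
    have hSuniv : S = Finset.univ := by
      have hc := card_perp hm hF (E := S) (hmemS.2 ⟨0, hE0, 0, hE0, by ring⟩) (fun z hz z' hz' => by
        obtain ⟨x, hx, y, hy, rfl⟩ := hmemS.1 hz
        obtain ⟨x', hx', y', hy', rfl⟩ := hmemS.1 hz'
        exact hmemS.2 ⟨x + x', hEadd _ hx _ hx', y + y', hEadd _ hy _ hy', by ring⟩)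
      have h1 : perp m S = {0} := by
        rw [Finset.eq_singleton_iff_unique_mem]
        refine ⟨(mem_perp hm hF).2 fun x _ => by rw [mul_zero, (eps_sign hF).map_zero], fun z hz => ?_⟩
        by_contra hz0
        have z1 : a⁻¹ * z ∈ W := (mem_perp hm hF).2 fun x hx => by
          rw [show x * (a⁻¹ * z) = (a⁻¹ * x + (1 + a)⁻¹ * 0) * z by ring]
          exact (mem_perp hm hF).1 hz _ (hmemS.2 ⟨x, hx, 0, hE0, rfl⟩)
        have z2 : (1 + a)⁻¹ * z ∈ W := (mem_perp hm hF).2 fun x hx => by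
          rw [show x * ((1 + a)⁻¹ * z) = (a⁻¹ * 0 + (1 + a)⁻¹ * x) * z by ring]
          exact (mem_perp hm hF).1 hz _ (hmemS.2 ⟨0, hE0, x, hx, rfl⟩)
        refine ha1 (ratio_mem hm hF z1 z2 (mul_ne_zero (inv_ne_zero ha0) hz0) ?_)
        field_simp
        ring
      rw [h1, Finset.card_singleton, mul_one] at hc
      exact Finset.eq_univ_of_card S hc
    obtain ⟨x, hx, y, hy, hsum⟩ := hmemS.1 (hSuniv ▸ Finset.mem_univ h0)
    refine reduce a⁻¹ (1 + a)⁻¹ h0 x y (inv_ne_zero ha0) (inv_ne_zero hβ0) hh0 hx hy hsum ?_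
    intro z hz x' hx' ez y' hy' e
    have v1 : eps m (z * (w0 * a)) = 1 := by
      rw [ez, show a⁻¹ * x' * (w0 * a) = x' * w0 by field_simp]
      exact (mem_perp hm hF).1 hw0W x' hx'
    have v2 : eps m ((z + h0) * (w0 * a)) = 1 := by
      have hy2 : y' = (1 + a) * (z + h0) := by rw [e]; field_simp
      have v3 := (mem_perp hm hF).1 hw0W y' hy'
      rw [hy2, show (1 + a) * (z + h0) * w0 = (z + h0) * w0 + (z + h0) * (w0 * a) by ring, eps_add hF,
        (mem_perp hm hF).1 hw0W _ (hEadd _ hz _ hh0), one_mul] at v3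
      exact v3
    rw [add_mul, eps_add hF, v1, one_mul] at v2
    exact hval v2

/-- a subgroup of a point stabiliser containing a split element but not all translations -/
theorem frobenius {H : Subgroup (Cfsg.Sz F m)} (hfix : ∀ g ∈ H, g • oInf F m = oInf F m) {k : Fˣ} (hk : k ≠ 1)
    (hkH : HS hF k ∈ H) (hU : ¬ U hF ≤ H) : ¬ IsBin H := by
  classical
  have hS := isSuzField hF
  have h2 := two_eq_zero hS
  let Ebar : F → Prop := fun a => ∃ b, TS hF a b ∈ H
  have h0 : Ebar 0 := ⟨0, by rw [TS_zero' hF]; exact one_mem _⟩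
  have hadd : ∀ {a a'}, Ebar a → Ebar a' → Ebar (a + a') := by
    rintro a a' ⟨b, hb⟩ ⟨b', hb'⟩
    have := mul_mem hb hb'
    rw [TS_mul' hF] at this
    exact ⟨_, this⟩
  have hnot : ∃ c, ¬ Ebar c := by
    by_contra hc
    push Not at hc
    refine hU ?_
    have hsq : ∀ b, TS hF 0 b ∈ H := by
      intro b
      rcases eq_or_ne b 0 with rfl | hb
      · rw [TS_zero' hF]; exact one_mem _
      obtain ⟨a, ha⟩ := exists_kth_eq hF (m := m) hb
      obtain ⟨b', hb'⟩ := hc (a : F)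
      have := mul_mem hb' hb'
      rwa [TS_sq' hF, ha] at this
    intro u hu
    obtain ⟨a, b, hab⟩ := hu
    obtain rfl : u = TS hF a b := Subtype.ext hab
    obtain ⟨b', hb'⟩ := hc a
    have := mul_mem hb' (hsq (b' + b))
    rw [TS_mul' hF, add_zero, mul_zero, add_zero] at this
    rwa [show b' + (b' + b) = b by linear_combination b' * h2] at this
  -- the set of first coordinates is stable under the torus parts
  have hscale : ∀ {a0 b0 : F} {l : Fˣ}, TS hF a0 b0 * HS hF l ∈ H → ∀ {a}, Ebar a → Ebar ((l : F) * a) := by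
    intro a0 b0 l hl a ha
    obtain ⟨b, hb⟩ := ha
    have h := mul_mem (mul_mem hl hb) (inv_mem hl)
    rw [show TS hF a0 b0 * HS hF l * TS hF a b * (TS hF a0 b0 * HS hF l)⁻¹ =
      TS hF a0 b0 * (HS hF l * TS hF a b * (HS hF l)⁻¹) * (TS hF a0 b0)⁻¹ by group, H_conj_T hF, TS_inv' hF,
      TS_mul' hF, TS_mul' hF] at h
    rw [show a0 + (l : F) * a + a0 = (l : F) * a by linear_combination a0 * h2] at h
    exact ⟨_, h⟩
  -- and under the inverse of `l + 1`
  have hdiv : ∀ {a0 b0 : F} {l : Fˣ}, TS hF a0 b0 * HS hF l ∈ H → l ≠ 1 → ∀ {a}, Ebar (((l : F) + 1) * a) → Ebar a := by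
    intro a0 b0 l hl hl1 a ha
    have hl0 : (l : F) + 1 ≠ 0 := fun h => hl1 (Units.ext (by
      rw [Units.val_one, eq_neg_of_add_eq_zero_left h, neg_eq hS]))
    have hmul : ∀ {b}, Ebar b → Ebar (((l : F) + 1) * b) := fun hb => by
      rw [add_mul, one_mul]; exact hadd (hscale hl hb) hb
    set u := Units.mk0 _ hl0
    have hpow : ∀ i : ℕ, Ebar (((l : F) + 1) ^ (i + 1) * a) := by
      intro i
      induction i with
      | zero => simpa using ha
      | succ i ih => rw [pow_succ', mul_assoc]; exact hmul ih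
    obtain ⟨j, hj⟩ : ∃ j, orderOf u = j + 1 := ⟨orderOf u - 1, by have := orderOf_pos u; omega⟩
    have := hpow j
    rwa [← hj, show ((l : F) + 1) = (u : F) from rfl, ← Units.val_pow_eq_pow_val, pow_orderOf_eq_one,
      Units.val_one, one_mul] at this
  have hkE : TS hF 0 0 * HS hF k ∈ H := by rw [TS_zero' hF, one_mul]; exact hkH
  have hfst : ∀ {a b : F} {l : Fˣ}, TS hF a b * HS hF l ∈ H → Ebar a := by
    intro a b l hl
    refine hdiv hkE hk ?_
    have h := mul_mem (mul_mem (mul_mem hkH hl) (inv_mem hkH)) (inv_mem hl)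
    rw [show HS hF k * (TS hF a b * HS hF l) * (HS hF k)⁻¹ * (TS hF a b * HS hF l)⁻¹ =
      HS hF k * TS hF a b * (HS hF k)⁻¹ * (HS hF k * HS hF l * (HS hF k)⁻¹ * (HS hF l)⁻¹) * (TS hF a b)⁻¹ by group,
      H_conj_T hF, ← HS_mul hF, mul_comm k l, HS_mul hF, mul_inv_cancel_right, mul_inv_cancel, mul_one, TS_inv' hF,
      TS_mul' hF] at h
    rw [show (k : F) * a + a = ((k : F) + 1) * a by ring] at h
    exact ⟨_, h⟩
  obtain ⟨c, hc⟩ := hnot
  have hk1 : (k : F) + 1 ≠ 0 := fun h => hk (Units.ext (by rw [Units.val_one, eq_neg_of_add_eq_zero_left h, neg_eq hS]))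
  -- the conjugate of `x²`
  set x := (HS hF k : Cfsg.Sz F m) with hx
  set u0 := (TS hF c 0 : Cfsg.Sz F m) with hu0
  have hk2 : k * k ≠ 1 := fun h => hk (by
    apply Units.ext
    have : (k : F) ^ 2 = 1 ^ 2 := by rw [one_pow, sq]; exact congrArg Units.val h
    rw [Units.val_one]
    exact sq_injective hS this)
  have hh0 : ∃ a b, x * (u0 * x * u0⁻¹) = TS hF a b * HS hF (k * k) ∧ a = (k : F) * c * ((k : F) + 1) := by
    have e : x * (u0 * x * u0⁻¹) = (x * u0 * x⁻¹) * ((x * x) * u0⁻¹ * (x * x)⁻¹) * (x * x) := by group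
    generalize x * (u0 * x * u0⁻¹) = L at e ⊢
    rw [hx, hu0, ← HS_mul hF, H_conj_T hF, TS_inv' hF, H_conj_T hF, TS_mul' hF, Units.val_mul] at e
    rw [show (k : F) * c + (k : F) * k * c = (k : F) * c * ((k : F) + 1) by ring] at e
    exact ⟨_, _, e, rfl⟩
  obtain ⟨a1, b1, he, ha1⟩ := hh0
  obtain ⟨x0, y0, hxy⟩ := exists_second_fix hm hF (a := a1) (b := b1) hk2
  set w := (TS hF x0 y0 : Cfsg.Sz F m) with hw
  have hwx : w⁻¹ * (x * (u0 * x * u0⁻¹)) * w = x * x := by
    rw [he]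
    have hmem : w⁻¹ * (TS hF a1 b1 * HS hF (k * k)) * w ∈ MulAction.stabilizer (Cfsg.Sz F m) (suzukiPointInfinity F) ⊓
        MulAction.stabilizer (Cfsg.Sz F m) (suzukiPointZero F) := by
      refine Subgroup.mem_inf.2 ⟨smul_inf_iff.1 ?_, ?_⟩
      · simp only [mul_smul, hw, TS_smul_inf hF, HS_smul_inf hF]
        rw [inv_smul_eq_iff, TS_smul_inf hF]
      · rw [MulAction.mem_stabilizer_iff]
        show ((T m x0 y0)⁻¹ * (T m a1 b1 * Suz.H m (k * k)) * T m x0 y0) • suzukiPointZero F = suzukiPointZero F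
        rw [mul_smul, mul_smul, T_zero_pt hS, show (T m a1 b1 * Suz.H m (k * k)) • pt m x0 y0 = pt m x0 y0 from
          congrArg Subtype.val hxy, ← T_zero_pt hS, inv_smul_smul]
    obtain ⟨l, hl⟩ := (mem_stab_pair hm hF).1 hmem
    have e : TS hF a1 b1 * HS hF (k * k) = (w * (HS hF l * w⁻¹ * (HS hF l)⁻¹)) * HS hF l := by
      calc TS hF a1 b1 * HS hF (k * k) = w * (w⁻¹ * (TS hF a1 b1 * HS hF (k * k)) * w) * w⁻¹ := by group
        _ = _ := by rw [hl]; group
    rw [hw, TS_inv' hF, H_conj_T hF, TS_mul' hF] at e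
    rw [hl, (TH_inj hF (congrArg Subtype.val e :)).2.2.symm, hx, HS_mul hF]
  -- the first coordinate of the moving translation
  have ha0 : a1 = x0 * (((k * k : Fˣ) : F) + 1) := by
    have e : TS hF a1 b1 * HS hF (k * k) = (w * (HS hF (k * k) * w⁻¹ * (HS hF (k * k))⁻¹)) * HS hF (k * k) := by
      rw [← he, HS_mul hF]
      calc x * (u0 * x * u0⁻¹) = w * (w⁻¹ * (x * (u0 * x * u0⁻¹)) * w) * w⁻¹ := by group
        _ = _ := by rw [hwx, hx]; group
    rw [hw, TS_inv' hF, H_conj_T hF, TS_mul' hF] at e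
    rw [(TH_inj hF (congrArg Subtype.val e :)).1]
    ring
  rw [Units.val_mul] at ha0
  have hkk : x0 * ((k : F) + 1) = (k : F) * c := by
    apply mul_right_cancel₀ hk1
    linear_combination -ha0 + ha1 + x0 * (k : F) * h2
  have hx0 : ¬ Ebar x0 := fun h => hc (by
    have h1 : Ebar (((k : F) + 1) * x0) := by rw [add_mul, one_mul]; exact hadd (hscale hkE h) h
    rw [mul_comm, hkk] at h1
    have hpow : ∀ i : ℕ, Ebar ((k : F) ^ (i + 1) * c) := by
      intro i
      induction i with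
      | zero => simpa using h1
      | succ i ih => rw [pow_succ', mul_assoc]; exact hscale hkE ih
    obtain ⟨j, hj⟩ : ∃ j, orderOf k = j + 1 := ⟨orderOf k - 1, by have := orderOf_pos k; omega⟩
    have := hpow j
    rwa [← hj, ← Units.val_pow_eq_pow_val, pow_orderOf_eq_one, Units.val_one, one_mul] at this)
  have hx0c : ¬ Ebar (x0 + c) := fun h => hc (by
    have h1 : Ebar (((k : F) + 1) * (x0 + c)) := by rw [add_mul, one_mul]; exact hadd (hscale hkE h) h
    rwa [show ((k : F) + 1) * (x0 + c) = c by linear_combination hkk + (k : F) * c * h2] at h1)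
  refine not_bin_of_witness (u := w⁻¹) (v := w⁻¹ * u0) (b := w⁻¹ * x * w) (mul_mem hkH hkH) ?_ ?_ ?_
  · rw [inv_inv, show w * (w⁻¹ * x * w) * w⁻¹ = x by group]; exact hkH
  · rw [show (w⁻¹ * u0)⁻¹ * ((w⁻¹ * x * w)⁻¹ * (x * x)) * (w⁻¹ * u0) =
      u0⁻¹ * (x⁻¹ * (w * (x * x) * w⁻¹)) * u0 by group,
      show w * (x * x) * w⁻¹ = x * (u0 * x * u0⁻¹) by rw [← hwx]; group,
      show u0⁻¹ * (x⁻¹ * (x * (u0 * x * u0⁻¹))) * u0 = x by group]
    exact hkH
  · intro e he heu hev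
    rw [inv_inv] at heu
    -- elements common to the subgroup and a displaced conjugate are translations
    have inU : ∀ (d : F) (d' : F) (e : Cfsg.Sz F m), ¬ Ebar d → e ∈ H →
        TS hF d d' * e * (TS hF d d')⁻¹ ∈ H → e ∈ U hF := by
      intro d d' e hd he hde
      obtain ⟨a, b, l, rfl⟩ := (mem_stab_inf hm hF).1 (smul_inf_iff.1 (hfix e he))
      by_cases hl : l = 1
      · rw [hl, HS_one hF, mul_one]; exact TS_mem_U hF a b
      exfalso
      rw [show TS hF d d' * (TS hF a b * HS hF l) * (TS hF d d')⁻¹ =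
        (TS hF d d' * TS hF a b * (HS hF l * (TS hF d d')⁻¹ * (HS hF l)⁻¹)) * HS hF l by group,
        TS_inv' hF, H_conj_T hF, TS_mul' hF, TS_mul' hF] at hde
      have h1 := hadd (hfst hde) (hfst he)
      refine hd (hdiv he hl ?_)
      rwa [show d + a + (l : F) * d + a = ((l : F) + 1) * d by linear_combination a * h2] at h1
    obtain ⟨yy, hyy⟩ : ∃ yy, (w⁻¹ * u0)⁻¹ = TS hF (x0 + c) yy := by
      have e : (w⁻¹ * u0)⁻¹ = u0⁻¹ * w := by rw [mul_inv_rev, inv_inv]
      rw [hu0, hw, TS_inv' hF c 0, TS_mul' hF, add_comm c x0] at e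
      exact ⟨_, e⟩
    have h1 : e ∈ U hF := inU x0 y0 e hx0 he (by rwa [hw] at heu)
    have h2' : e⁻¹ * (x * x) ∈ U hF := inU _ yy _ hx0c (mul_mem (inv_mem he) (mul_mem hkH hkH)) (by
      rw [← hyy, inv_inv]; exact hev)
    have h3 := mul_mem h1 h2'
    rw [mul_inv_cancel_left, hx, ← HS_mul hF] at h3
    exact NForm.not_two_HS hF hm hk2 (isTwo_of_mem_U hF h3)

/-- a subfield subgroup is not binary -/
theorem subfield {k : ℕ} (hk : 1 ≤ k) (hkm : k < m) (hdvd : 2 * k + 1 ∣ 2 * m + 1) :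
    ¬ IsBin (SubSz hm hF (2 * k + 1)) := by
  classical
  have hS := isSuzField hF
  set n := 2 * k + 1 with hn
  have hcard := card_inF hF hdvd
  have h8 : 8 ≤ 2 ^ n := le_trans (le_of_eq (by norm_num)) (Nat.pow_le_pow_right (by norm_num) (show 3 ≤ n by omega))
  obtain ⟨b, hb⟩ : ∃ b : F, ¬ InF n b := by
    by_contra hc
    push Not at hc
    rw [Nat.card_congr (Equiv.subtypeUnivEquiv hc), Nat.card_eq_fintype_card, hF] at hcard
    have := Nat.pow_right_injective (le_refl 2) hcard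
    omega
  obtain ⟨c, hc, hc0, hc1⟩ : ∃ c : F, InF n c ∧ c ≠ 0 ∧ c ≠ 1 := by
    by_contra hc
    push Not at hc
    have h1 : Nat.card {x : F // InF n x} ≤ Nat.card ↥({0, 1} : Set F) := by
      refine Nat.card_le_card_of_injective (fun x => ⟨x.1, ?_⟩) fun x y e => Subtype.ext (congrArg Subtype.val e :)
      rcases eq_or_ne x.1 0 with e | e
      · exact Or.inl e
      · exact Or.inr (hc x.1 x.2 e)
    rw [hcard, Nat.card_coe_set_eq, Set.ncard_pair zero_ne_one] at h1
    omega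
  have root : ∀ c : F, InF n c → c ≠ 0 → ∃ l : Fˣ, InF n (l : F) ∧ th m (l : F) * l = c := by
    intro c hc hc0
    obtain ⟨l, hl⟩ := exists_kth_eq hF (m := m) hc0
    refine ⟨l, ?_, hl⟩
    set l' : Fˣ := l ^ 2 ^ n
    have : th m (l' : F) * l' = th m (l : F) * l := by
      rw [Units.val_pow_eq_pow_val, th_pow hS, ← mul_pow, hl]
      exact hc
    exact congrArg Units.val (kth_injective hS this)
  have hc1' : 1 + c ≠ 0 := fun e => hc1 (by linear_combination e - two_eq_zero hS)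
  obtain ⟨l, hl, hle⟩ := root c hc hc0
  obtain ⟨l', hl', hle'⟩ := root ((1 + c) * c⁻¹) ((InF.add hF InF.one hc).mul (InF.inv hc))
    (mul_ne_zero hc1' (inv_ne_zero hc0))
  have hg : TS hF 0 b ∉ SubSz hm hF n := fun h => hb ((inF_iff hF n b).2 (by
    rw [mem_SubSz hm hF, sigAut_TS] at h
    exact (TS_inj hF h).2))
  refine not_bin_of_cycle (three_not_dvd hm hF) hg (HS_mem_SubSz hm hF hl) (HS_mem_SubSz hm hF hl') ?_
  rw [show TS hF 0 b * HS hF l * TS hF 0 b * HS hF l' * TS hF 0 b =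
    TS hF 0 b * (HS hF l * TS hF 0 b * (HS hF l)⁻¹) * ((HS hF l * HS hF l') * TS hF 0 b * (HS hF l * HS hF l')⁻¹) *
      (HS hF l * HS hF l') by group, ← HS_mul hF, H_conj_T hF, H_conj_T hF, mul_zero, mul_zero,
    mul_TS_zero hm hF, mul_TS_zero hm hF, Units.val_mul, th_mul hS]
  rw [show b + th m (l : F) * l * b + th m (l : F) * th m (l' : F) * ((l : F) * l') * b = 0 by
    rw [show th m (l : F) * th m (l' : F) * ((l : F) * l') = (th m (l : F) * l) * (th m (l' : F) * l') by ring,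
      hle, hle', show c * ((1 + c) * c⁻¹) = 1 + c by field_simp]
    linear_combination (b + c * b) * two_eq_zero hS, TS_zero' hF, one_mul]
  exact HS_mem_SubSz hm hF (by rw [Units.val_mul]; exact hl.mul hl')

end CfsgLib.Lie.Suz.Binary
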