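import Mathlib

/-!
# Binary coset actions: two ways of refuting
-/

set_option autoImplicit false

namespace CfsgLib.Lie.Suz.Binary

variable {G : Type*} [Group G]

/-- the action on the cosets is binary -/
def IsBin (H : Subgroup G) : Prop :=
  ∀ (n : ℕ) (I J : Fin n → G ⧸ H), 2 ≤ n →
    (∀ i j : Fin n, i ≠ j → ∃ g : G, g • I i = J i ∧ g • I j = J j) → ∃ g : G, ∀ i, g • I i = J i

theorem pairs_three {Ω : Type*} [MulAction G Ω] {I J : Fin 3 → Ω}
    (h01 : ∃ g : G, g • I 0 = J 0 ∧ g • I 1 = J 1) (h02 : ∃ g : G, g • I 0 = J 0 ∧ g • I 2 = J 2)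
    (h12 : ∃ g : G, g • I 1 = J 1 ∧ g • I 2 = J 2) :
    ∀ i j : Fin 3, i ≠ j → ∃ g : G, g • I i = J i ∧ g • I j = J j := by
  have swap : ∀ i j, (∃ g : G, g • I i = J i ∧ g • I j = J j) → ∃ g : G, g • I j = J j ∧ g • I i = J i :=
    fun i j ⟨g, a, b⟩ => ⟨g, b, a⟩
  intro i j hij
  fin_cases i <;> fin_cases j
  exacts [absurd rfl hij, h01, h02, swap _ _ h01, absurd rfl hij, h12, swap _ _ h02, swap _ _ h12, absurd rfl hij]

theorem coset_eq {H : Subgroup G} {x y : G} (h : x⁻¹ * y ∈ H) : (x : G ⧸ H) = (y : G ⧸ H) :=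
  QuotientGroup.eq.2 h

/-- three points in a cycle are impossible without elements of order three -/
theorem not_bin_of_cycle [Finite G] (h3 : ¬ 3 ∣ Nat.card G) {H : Subgroup G} {g h h' : G}
    (hg : g ∉ H) (hh : h ∈ H) (hh' : h' ∈ H) (hc : g * h * g * h' * g ∈ H) : ¬ IsBin H := by
  intro hbin
  set k := g * h * g * h' * g with hk
  let p : G ⧸ H := ((1 : G) : G ⧸ H)
  let q : G ⧸ H := (g : G ⧸ H)
  let s : G ⧸ H := ((g * h * g : G) : G ⧸ H)
  have e1 : (g * h) • p = q := coset_eq (show (g * h * 1)⁻¹ * g ∈ H by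
    rw [mul_one, mul_inv_rev, inv_mul_cancel_right]; exact inv_mem hh)
  have e2 : (g * h) • q = s := rfl
  have e3 : (g * h * g * (h' * h⁻¹) * g⁻¹) • q = s := coset_eq (show
      (g * h * g * (h' * h⁻¹) * g⁻¹ * g)⁻¹ * (g * h * g) ∈ H by
    rw [inv_mul_cancel_right, show (g * h * g * (h' * h⁻¹))⁻¹ * (g * h * g) = h * h'⁻¹ by group]
    exact mul_mem hh (inv_mem hh'))
  have e4 : (g * h * g * (h' * h⁻¹) * g⁻¹) • s = p := coset_eq (show
      (g * h * g * (h' * h⁻¹) * g⁻¹ * (g * h * g))⁻¹ * 1 ∈ H by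
    rw [mul_one, show g * h * g * (h' * h⁻¹) * g⁻¹ * (g * h * g) = k by rw [hk]; group]
    exact inv_mem hc)
  have e5 : (g * k⁻¹) • p = q := coset_eq (show (g * k⁻¹ * 1)⁻¹ * g ∈ H by
    rw [mul_one, mul_inv_rev, inv_inv, inv_mul_cancel_right]; exact hc)
  have e6 : (g * k⁻¹) • s = p := coset_eq (show (g * k⁻¹ * (g * h * g))⁻¹ * 1 ∈ H by
    rw [mul_one, show g * k⁻¹ * (g * h * g) = h'⁻¹ by rw [hk]; group]
    exact inv_mem (inv_mem hh'))
  obtain ⟨e, he⟩ := hbin 3 ![p, q, s] ![q, s, p] (by norm_num)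
    (pairs_three ⟨g * h, e1, e2⟩ ⟨g * k⁻¹, e5, e6⟩ ⟨g * h * g * (h' * h⁻¹) * g⁻¹, e3, e4⟩)
  have ep : e • p = q := he 0
  have eq : e • q = s := he 1
  have es : e • s = p := he 2
  have hstab : e ^ 3 ∈ MulAction.stabilizer G p := by
    rw [MulAction.mem_stabilizer_iff]
    calc e ^ 3 • p = e • e • e • p := by simp [pow_succ, mul_smul]
      _ = p := by rw [ep, eq, es]
  have hco : Nat.Coprime 3 (orderOf e) :=
    (Nat.Prime.coprime_iff_not_dvd Nat.prime_three).2 fun hd => h3 (hd.trans (orderOf_dvd_natCard e))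
  obtain ⟨j, hj⟩ := exists_pow_eq_self_of_coprime hco
  have h1 : e ∈ MulAction.stabilizer G p := hj ▸ pow_mem hstab j
  rw [MulAction.mem_stabilizer_iff, ep] at h1
  exact hg (by simpa [p, q] using QuotientGroup.eq.1 h1)

/-- three points seen pairwise but not globally -/
theorem not_bin_of_witness {H : Subgroup G} {u v h b : G} (hh : h ∈ H) (hb : u⁻¹ * b * u ∈ H)
    (hc : v⁻¹ * (b⁻¹ * h) * v ∈ H) (hno : ∀ e ∈ H, u⁻¹ * e * u ∈ H → v⁻¹ * (e⁻¹ * h) * v ∉ H) :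
    ¬ IsBin H := by
  intro hbin
  let p : G ⧸ H := ((1 : G) : G ⧸ H)
  let q : G ⧸ H := (u : G ⧸ H)
  let s : G ⧸ H := (v : G ⧸ H)
  let s' : G ⧸ H := ((h * v : G) : G ⧸ H)
  have a1 : (1 : G) • p = p := one_smul _ _
  have a2 : (1 : G) • q = q := one_smul _ _
  have b1 : h • p = p := coset_eq (show (h * 1)⁻¹ * 1 ∈ H by simpa using inv_mem hh)
  have b2 : h • s = s' := rfl
  have c1 : b • q = q := coset_eq (show (b * u)⁻¹ * u ∈ H by
    rw [show (b * u)⁻¹ * u = (u⁻¹ * b * u)⁻¹ by group]; exact inv_mem hb)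
  have c2 : b • s = s' := coset_eq (show (b * v)⁻¹ * (h * v) ∈ H by
    rw [show (b * v)⁻¹ * (h * v) = v⁻¹ * (b⁻¹ * h) * v by group]; exact hc)
  obtain ⟨e, he⟩ := hbin 3 ![p, q, s] ![p, q, s'] (by norm_num) (pairs_three ⟨1, a1, a2⟩ ⟨h, b1, b2⟩ ⟨b, c1, c2⟩)
  have d1 : ((e * 1 : G) : G ⧸ H) = ((1 : G) : G ⧸ H) := he 0
  have d2 : ((e * u : G) : G ⧸ H) = (u : G ⧸ H) := he 1
  have d3 : ((e * v : G) : G ⧸ H) = ((h * v : G) : G ⧸ H) := he 2
  rw [QuotientGroup.eq] at d1 d2 d3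
  have k1 : e ∈ H := by simpa using d1
  have k2 : u⁻¹ * e * u ∈ H := by
    have := inv_mem d2; rwa [show ((e * u)⁻¹ * u)⁻¹ = u⁻¹ * e * u by group] at this
  exact hno e k1 k2 (by rwa [show (e * v)⁻¹ * (h * v) = v⁻¹ * (e⁻¹ * h) * v by group] at d3)

/-- conjugate subgroups give equivalent actions -/
theorem IsBin.conj {H : Subgroup G} (h : IsBin H) (c : G) : IsBin (H.map (MulAut.conj c).toMonoidHom) := by
  intro n
  set K := H.map (MulAut.conj c).toMonoidHom with hK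
  intro I J hn hpair
  have mem : ∀ x : G, x ∈ K ↔ c⁻¹ * x * c ∈ H := fun x => by
    rw [hK, Subgroup.mem_map_equiv, MulAut.conj_symm_apply]
  let φ : G ⧸ K → G ⧸ H := Quotient.lift (fun x : G => ((x * c : G) : G ⧸ H)) fun x y hxy => by
    apply coset_eq
    have hxy' := (mem _).1 (QuotientGroup.leftRel_apply.1 hxy)
    rwa [show (x * c)⁻¹ * (y * c) = c⁻¹ * (x⁻¹ * y) * c by group]
  have hφ : ∀ (g : G) (z : G ⧸ K), φ (g • z) = g • φ z := by
    intro g z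
    induction z using QuotientGroup.induction_on with
    | H x => show ((g * x * c : G) : G ⧸ H) = ((g * (x * c) : G) : G ⧸ H); rw [mul_assoc]
  have hinj : Function.Injective φ := by
    intro z w hzw
    induction z using QuotientGroup.induction_on with
    | H x =>
      induction w using QuotientGroup.induction_on with
      | H y =>
        have h1 : (x * c)⁻¹ * (y * c) ∈ H := QuotientGroup.eq.1 hzw
        exact coset_eq ((mem _).2 (by rwa [show c⁻¹ * (x⁻¹ * y) * c = (x * c)⁻¹ * (y * c) by group]))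
  obtain ⟨g, hg⟩ := h n (fun i => φ (I i)) (fun i => φ (J i)) hn fun i j hij => by
    obtain ⟨g, g1, g2⟩ := hpair i j hij
    exact ⟨g, by rw [← hφ, g1], by rw [← hφ, g2]⟩
  exact ⟨g, fun i => hinj (by rw [hφ]; exact hg i)⟩

theorem isBin_bot : IsBin (⊥ : Subgroup G) := by
  intro n I J hn h
  have h0 : (⟨0, by omega⟩ : Fin n) ≠ ⟨1, by omega⟩ := by simp
  obtain ⟨g0, hg0, -⟩ := h _ _ h0
  refine ⟨g0, fun i => ?_⟩
  by_cases hi : i = ⟨0, by omega⟩
  · subst hi; exact hg0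
  obtain ⟨g, h1, h2⟩ := h _ _ (Ne.symm hi)
  have e : g = g0 := by
    obtain ⟨x, hx⟩ := QuotientGroup.mk_surjective (I ⟨0, by omega⟩)
    have h3 : g • I ⟨0, by omega⟩ = g0 • I ⟨0, by omega⟩ := h1.trans hg0.symm
    rw [← hx] at h3
    have h4 : ((g * x : G) : G ⧸ (⊥ : Subgroup G)) = ((g0 * x : G) : G ⧸ (⊥ : Subgroup G)) := h3
    rw [QuotientGroup.eq, Subgroup.mem_bot, inv_mul_eq_one] at h4
    exact mul_right_cancel h4
  rw [← e]; exact h2

end CfsgLib.Lie.Suz.Binary
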